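import Cfsg.Agent.Lib.Linear.MinIndexOrth.Space
import Cfsg.Agent.Lib.Linear.OrthOrder

/-!
# Counting vectors of a given norm
-/

set_option autoImplicit false

namespace Cfsg.Lib.Linear.MinIndexOrth

open Module Cfsg.Lib.Linear.Orth
open scoped Matrix

variable {ι : Type} [Fintype ι] [DecidableEq ι] {F : Type*} [Field F] [Finite F]
  {Q : (ι → F) → F} {B : LinearMap.BilinForm F (ι → F)}

/-- The number of vectors of norm `c` in `U`. -/
noncomputable def level (Q : (ι → F) → F) (U : Submodule F (ι → F)) (c : F) : ℕ :=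
  Nat.card {x : ι → F // x ∈ U ∧ Q x = c}

theorem card_submodule (U : Submodule F (ι → F)) : Nat.card U = Nat.card F ^ finrank F U :=
  Module.natCard_eq_pow_finrank

variable (C : Space Q B) {U : Submodule F (ι → F)} {e f : ι → F}

include C

theorem finrank_step (H : Hyp Q B U e f) :
    finrank F ↥(perp2 B U e f) + 2 = finrank F U := by
  have h := card_step C H
  rw [card_submodule, card_submodule] at h
  have h' : Nat.card F ^ finrank F U = Nat.card F ^ (finrank F ↥(perp2 B U e f) + 2) := by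
    rw [pow_add, mul_comm]; exact_mod_cast h
  exact (Nat.pow_right_injective (Finite.one_lt_card (α := F)) h').symm

theorem level_step (H : Hyp Q B U e f) (c : F) :
    (level Q U c : ℤ) = (Nat.card F : ℤ) * level Q (perp2 B U e f) c +
      ((Nat.card F : ℤ) - 1) * (Nat.card F : ℤ) ^ finrank F ↥(perp2 B U e f) := by
  classical
  have := Fintype.ofFinite F
  rw [← Nat.cast_pow, ← card_submodule]
  set W := perp2 B U e f with hW
  have key : {x : ι → F // x ∈ U ∧ Q x = c} ≃ Σ w : W, {p : F × F // p.1 * p.2 = c - Q w.1} :=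
    { toFun := fun x => ⟨⟨_, H.proj C x.2.1⟩, (B f x.1, B e x.1), by
        have h := Q_hyp C H (H.proj C x.2.1) (B f x.1) (B e x.1)
        rw [show x.1 - B f x.1 • e - B e x.1 • f + B f x.1 • e + B e x.1 • f = x.1 by abel,
          x.2.2] at h
        linear_combination -h⟩
      invFun := fun p => ⟨p.1.1 + p.2.1.1 • e + p.2.1.2 • f,
        U.add_mem (U.add_mem (mem_perp2.mp p.1.2).1 (U.smul_mem _ H.memE)) (U.smul_mem _ H.memF),
        by rw [Q_hyp C H p.1.2, p.2.2]; abel⟩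
      left_inv := fun x => Subtype.ext (by simp only; abel)
      right_inv := fun p => by
        obtain ⟨⟨w, hw⟩, ⟨⟨a, b⟩, hp⟩⟩ := p
        obtain ⟨-, hew, hfw⟩ := mem_perp2.mp hw
        have h1 : B f (w + a • e + b • f) = a := by
          simp [hfw, H.pair' C, C.self_zero H.singF]
        have h2 : B e (w + a • e + b • f) = b := by
          simp [hew, H.pair, C.self_zero H.singE]
        have h3 : w + a • e + b • f - a • e - b • f = w := by abel
        refine Sigma.subtype_ext (Subtype.ext ?_) (Prod.ext h1 h2)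
        simp only [h1, h2, h3] }
  rw [level, Nat.card_congr key, Nat.card_sigma, Nat.cast_sum]
  simp only [card_mul_eq, sub_eq_zero]
  have h1 : ((Finset.univ.filter fun w : W => c = Q w.1).card : ℤ) = level Q W c := by
    rw [level, ← Fintype.card_subtype, ← Nat.card_eq_fintype_card]
    refine congrArg _ (Nat.card_congr ((Equiv.subtypeEquivRight fun w => eq_comm).trans
      (Equiv.subtypeSubtypeEquivSubtypeInter (fun x => x ∈ W) fun x => Q x = c)))
  rw [Finset.sum_ite, Finset.sum_const, Finset.sum_const, nsmul_eq_mul, nsmul_eq_mul, h1]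
  have h2 := Finset.card_filter_add_card_filter_not (s := (Finset.univ : Finset W))
    (fun w : W => c = Q w.1)
  rw [Finset.card_univ] at h2
  rw [Nat.card_eq_fintype_card (α := W), ← h2]
  push_cast
  rw [h1]
  ring

/-- A lower bound for the number of vectors of any norm. -/
theorem level_lower (hU : NDeg B U) {j : ℕ} (hj : finrank F U = j + 5) (c : F) :
    Nat.card F ^ (j + 2) * (Nat.card F ^ 2 - 1) ≤ level Q U c := by
  obtain ⟨e, f, H⟩ := exists_hyp' C hU (by omega)
  have h1 := level_step C H c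
  have d1 := finrank_step C H
  obtain ⟨e', f', H'⟩ := exists_hyp' C (H.ndeg C hU) (by omega)
  have h2 := level_step C H' c
  have d2 := finrank_step C H'
  rw [h2, show finrank F ↥(perp2 B U e f) = j + 3 by omega,
    show finrank F ↥(perp2 B (perp2 B U e f) e' f') = j + 1 by omega] at h1
  have hq : 1 ≤ Nat.card F := Nat.card_pos
  have h0 : (0 : ℤ) ≤ level Q (perp2 B (perp2 B U e f) e' f') c := Int.natCast_nonneg _
  zify [Nat.one_le_pow 2 _ hq]
  have key : (level Q U c : ℤ) = (Nat.card F : ℤ) ^ 2 *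
      level Q (perp2 B (perp2 B U e f) e' f') c +
        (Nat.card F : ℤ) ^ (j + 2) * ((Nat.card F : ℤ) ^ 2 - 1) := by
    rw [h1]; ring
  nlinarith

theorem ts_step (hU : NDeg B U) {W : Submodule F (ι → F)} (hWU : W ≤ U)
    (hW : ∀ x ∈ W, Q x = 0) {k : ℕ} (hk : k + 1 ≤ finrank F W) :
    ∃ U' W' : Submodule F (ι → F), NDeg B U' ∧ W' ≤ U' ∧ (∀ x ∈ W', Q x = 0) ∧
      k ≤ finrank F W' ∧ finrank F U' + 2 = finrank F U ∧
      (level Q U 0 : ℤ) = (Nat.card F : ℤ) * level Q U' 0 +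
        ((Nat.card F : ℤ) - 1) * (Nat.card F : ℤ) ^ finrank F U' := by
  obtain ⟨e, he, he0⟩ := Submodule.exists_mem_ne_zero_of_ne_bot
    (fun h : W = ⊥ => by rw [h, finrank_bot] at hk; omega)
  obtain ⟨f, H⟩ := exists_hyp C hU (hWU he) he0 (hW e he)
  refine ⟨perp2 B U e f, W ⊓ LinearMap.ker (B f), H.ndeg C hU, fun x hx => ?_,
    fun x hx => hW x hx.1, ?_, finrank_step C H, level_step C H 0⟩
  · obtain ⟨hxW, hfx⟩ := Submodule.mem_inf.mp hx
    have hex : B e x = 0 := by
      have := hW _ (W.add_mem he hxW)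
      rw [C.add, hW e he, hW x hxW] at this
      simpa using this
    exact mem_perp2.mpr ⟨hWU hxW, hex, LinearMap.mem_ker.mp hfx⟩
  · have := finrank_inf_ker_ge C W f
    omega

theorem one_le_level_zero (U : Submodule F (ι → F)) : 1 ≤ level Q U 0 :=
  Nat.card_pos_iff.mpr ⟨⟨⟨0, U.zero_mem, C.zero⟩⟩, inferInstance⟩

theorem level_zero_five (hU : NDeg B U) (h5 : finrank F U = 5) {W : Submodule F (ι → F)}
    (hWU : W ≤ U) (hW : ∀ x ∈ W, Q x = 0) (h2 : 2 ≤ finrank F W) :
    Nat.card F ^ 4 ≤ level Q U 0 := by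
  obtain ⟨U1, W1, hU1, hWU1, hW1, hk1, hd1, h1⟩ := ts_step C hU hWU hW (k := 1) h2
  obtain ⟨U2, W2, -, -, -, -, hd2, e2⟩ := ts_step C hU1 hWU1 hW1 (k := 0) hk1
  rw [e2, show finrank F U1 = 3 by omega, show finrank F U2 = 1 by omega] at h1
  have h0 : (1 : ℤ) ≤ level Q U2 0 := by exact_mod_cast one_le_level_zero C U2
  zify
  nlinarith [h1, mul_nonneg (pow_nonneg (Int.natCast_nonneg (Nat.card F)) 2) (sub_nonneg.mpr h0)]

theorem level_zero_six (hU : NDeg B U) (h6 : finrank F U = 6) {W : Submodule F (ι → F)}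
    (hWU : W ≤ U) (hW : ∀ x ∈ W, Q x = 0) (h3 : 3 ≤ finrank F W) :
    Nat.card F ^ 5 + Nat.card F ^ 3 ≤ level Q U 0 + Nat.card F ^ 2 := by
  obtain ⟨U1, W1, hU1, hWU1, hW1, hk1, hd1, h1⟩ := ts_step C hU hWU hW (k := 2) h3
  obtain ⟨U2, W2, hU2, hWU2, hW2, hk2, hd2, e2⟩ := ts_step C hU1 hWU1 hW1 (k := 1) hk1
  obtain ⟨U3, W3, -, -, -, -, hd3, e3⟩ := ts_step C hU2 hWU2 hW2 (k := 0) hk2
  rw [e2, e3, show finrank F U1 = 4 by omega, show finrank F U2 = 2 by omega,
    show finrank F U3 = 0 by omega] at h1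
  have h0 : (1 : ℤ) ≤ level Q U3 0 := by exact_mod_cast one_le_level_zero C U3
  zify
  nlinarith [h1, h0, pow_nonneg (Int.natCast_nonneg (Nat.card F)) 3]

omit C

/-- The vectors of `U` whose norm is a non-zero square multiple of that of `a`. -/
def cls (Q : (ι → F) → F) (U : Submodule F (ι → F)) (a : ι → F) : Set (ι → F) :=
  {x | x ∈ U ∧ x ≠ 0 ∧ ∃ t : F, t ≠ 0 ∧ Q x = t ^ 2 * Q a}

include C

theorem cls_lower {a : ι → F} (ha : Q a ≠ 0) {L : ℕ} (hL : ∀ c, L ≤ level Q U c) :
    (Nat.card F - 1) * L ≤ 2 * (cls Q U a).ncard ∧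
      ((2 : F) = 0 → (Nat.card F - 1) * L ≤ (cls Q U a).ncard) := by
  classical
  have := Fintype.ofFinite F
  let S := Σ t : Fˣ, {x : ι → F // x ∈ U ∧ Q x = (t : F) ^ 2 * Q a}
  have hS : (Nat.card F - 1) * L ≤ Nat.card S := by
    rw [Nat.card_sigma]
    refine le_trans ?_ (Finset.card_nsmul_le_sum _ _ L fun t _ => hL _)
    rw [smul_eq_mul, Finset.card_univ, Fintype.card_units, Nat.card_eq_fintype_card]
  have hmem : ∀ s : S, s.2.1 ∈ cls Q U a := fun s =>
    ⟨s.2.2.1, fun h0 => mul_ne_zero (pow_ne_zero 2 s.1.ne_zero) ha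
      (by rw [← s.2.2.2, h0, C.zero]), s.1, s.1.ne_zero, s.2.2.2⟩
  choose root hroot0 hroot using fun x : ↥(cls Q U a) => x.2.2.2
  have hsq : ∀ s : S, (s.1 : F) = root ⟨_, hmem s⟩ ∨ (s.1 : F) = -root ⟨_, hmem s⟩ := fun s =>
    sq_eq_sq_iff_eq_or_eq_neg.mp (mul_right_cancel₀ ha
      (s.2.2.2.symm.trans (hroot ⟨_, hmem s⟩)))
  have hext : ∀ s s' : S, s.2.1 = s'.2.1 → (s.1 : F) = s'.1 → s = s' := fun s s' h1 h2 => by
    obtain ⟨t, x, hx⟩ := s
    obtain ⟨t', x', hx'⟩ := s'
    obtain rfl := Units.ext h2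
    obtain rfl : x = x' := h1
    rfl
  constructor
  · refine hS.trans ?_
    rw [← Nat.card_coe_set_eq, show 2 * Nat.card ↥(cls Q U a) =
      Nat.card (↥(cls Q U a) × Bool) by rw [Nat.card_prod, mul_comm]; simp]
    refine Nat.card_le_card_of_injective
      (fun s : S => (⟨_, hmem s⟩, decide ((s.1 : F) = root ⟨_, hmem s⟩))) fun s s' h => ?_
    simp only [Prod.mk.injEq, Subtype.mk.injEq, decide_eq_decide] at h
    obtain ⟨h1, h2⟩ := h
    refine hext s s' h1 ?_
    have e : root ⟨_, hmem s⟩ = root ⟨_, hmem s'⟩ := congrArg root (Subtype.ext h1)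
    rw [e] at h2
    have hs₁ := hsq s
    rw [e] at hs₁
    rcases hs₁ with hs | hs <;> rcases hsq s' with hs' | hs'
    · exact hs.trans hs'.symm
    · exact hs.trans (h2.mp hs).symm
    · exact (h2.mpr hs').trans hs'.symm
    · exact hs.trans hs'.symm
  · intro h2
    refine hS.trans ?_
    rw [← Nat.card_coe_set_eq]
    haveI : CharP F 2 := CharTwo.of_one_ne_zero_of_two_eq_zero one_ne_zero h2
    refine Nat.card_le_card_of_injective (fun s : S => (⟨_, hmem s⟩ : ↥(cls Q U a))) fun s s' h => ?_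
    refine hext s s' (congrArg Subtype.val h) ?_
    have e : root ⟨_, hmem s⟩ = root ⟨_, hmem s'⟩ := congrArg root h
    have hs₁ := hsq s
    have hs₂ := hsq s'
    rw [CharTwo.neg_eq, or_self] at hs₁ hs₂
    rw [hs₁, hs₂, e]

end Cfsg.Lib.Linear.MinIndexOrth
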