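import Cfsg.Agent.Lib.Linear.MinIndexOrth.Dual
import Cfsg.Agent.Lib.Linear.MinIndexOrth.Count

/-!
# The orbits of the elements with a given centre on a set acted on by `Ω`

For a point `x` and a frame `(v, f)` the group `sset` of parameters fixing `x` has an annihilator
`aset`; its size is the length of the orbit, and it is constant along the orbit.
-/

set_option autoImplicit false

namespace Cfsg.Lib.Linear.MinIndexOrth

open Module Cfsg.Lib.Linear.Orth
open scoped Matrix

noncomputable section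

variable {ι : Type} [Fintype ι] [DecidableEq ι] {F : Type*} [Field F]
  {Q : (ι → F) → F} {B : LinearMap.BilinForm F (ι → F)} {α : Type*}
  [MulAction ↥(Root Q B ⊤) α]

/-- The stabiliser of a point, as a group of matrices. -/
def Stab (Q : (ι → F) → F) (B : LinearMap.BilinForm F (ι → F)) [MulAction ↥(Root Q B ⊤) α]
    (x : α) : Subgroup (GL ι F) :=
  (MulAction.stabilizer ↥(Root Q B ⊤) x).map (Root Q B ⊤).subtype

open scoped Classical in
/-- The action of a matrix of `Ω` on a point. -/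
noncomputable def mv (Q : (ι → F) → F) (B : LinearMap.BilinForm F (ι → F))
    [MulAction ↥(Root Q B ⊤) α] (g : GL ι F) (x : α) : α :=
  if h : g ∈ Root Q B ⊤ then (⟨g, h⟩ : ↥(Root Q B ⊤)) • x else x

theorem mv_eq {g : GL ι F} (hg : g ∈ Root Q B ⊤) (x : α) :
    mv Q B g x = (⟨g, hg⟩ : ↥(Root Q B ⊤)) • x := dif_pos hg

theorem mv_one (x : α) : mv Q B 1 x = x := by
  rw [mv_eq (one_mem _)]; exact one_smul _ x

theorem mv_mul {g h : GL ι F} (hg : g ∈ Root Q B ⊤) (hh : h ∈ Root Q B ⊤) (x : α) :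
    mv Q B (g * h) x = mv Q B g (mv Q B h x) := by
  rw [mv_eq hg, mv_eq hh, mv_eq (mul_mem hg hh), ← mul_smul]; rfl

theorem mv_inv {g : GL ι F} (hg : g ∈ Root Q B ⊤) (x : α) :
    mv Q B g⁻¹ (mv Q B g x) = x := by
  rw [← mv_mul (inv_mem hg) hg, inv_mul_cancel, mv_one]

theorem mv_inv' {g : GL ι F} (hg : g ∈ Root Q B ⊤) (x : α) :
    mv Q B g (mv Q B g⁻¹ x) = x := by
  rw [← mv_mul hg (inv_mem hg), mul_inv_cancel, mv_one]

theorem Stab_le (x : α) : Stab Q B x ≤ Root Q B ⊤ := Subgroup.map_subtype_le _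

theorem mem_Stab {g : GL ι F} (hg : g ∈ Root Q B ⊤) {x : α} :
    g ∈ Stab Q B x ↔ mv Q B g x = x := by
  rw [mv_eq hg]
  constructor
  · rintro ⟨⟨h, hh⟩, hs, rfl⟩
    exact hs
  · exact fun h => ⟨⟨g, hg⟩, h, rfl⟩

theorem mv_of_mem {g : GL ι F} {x : α} (hg : g ∈ Stab Q B x) : mv Q B g x = x :=
  (mem_Stab (Stab_le x hg)).mp hg

theorem conj_mem_Stab {g k : GL ι F} (hk : k ∈ Root Q B ⊤) {x : α}
    (hg : g ∈ Stab Q B (mv Q B k x)) : k⁻¹ * g * k ∈ Stab Q B x := by
  have hgK := Stab_le _ hg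
  rw [mem_Stab (mul_mem (mul_mem (inv_mem hk) hgK) hk), mv_mul (mul_mem (inv_mem hk) hgK) hk,
    mv_mul (inv_mem hk) hgK, mv_of_mem hg, mv_inv hk]

variable {v f : ι → F}

/-- The parameters of the elements with centre `v` fixing `x`. -/
def sset (Q : (ι → F) → F) (B : LinearMap.BilinForm F (ι → F)) [MulAction ↥(Root Q B ⊤) α]
    (v f : ι → F) (x : α) : Set (ι → F) :=
  {w | w ∈ X B v f ∧ sGL Q B v w ∈ Stab Q B x}

section

variable (C : Space Q B) (hv : Q v = 0)

include C hv

theorem sGL_zero_right : sGL Q B v (0 : ι → F) = 1 := gl_ext fun z => by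
  rw [sGL_act C hv (map_zero _), C.zero]; simp

theorem sGL_inv {w : ι → F} (hw : B v w = 0) : (sGL Q B v w)⁻¹ = sGL Q B v (-w) :=
  inv_eq_of_mul_eq_one_right (by
    rw [sGL_mul C hv hw (by rw [map_neg, hw, neg_zero]), add_neg_cancel, sGL_zero_right C hv])

theorem sGL_mem_K {w : ι → F} (hw : w ∈ X B v f) : sGL Q B v w ∈ Root Q B ⊤ :=
  sGL_mem_root trivial trivial hv (X.left hw)

/-- `sset` as an additive subgroup. -/
def sgroup (x : α) : AddSubgroup (ι → F) where
  carrier := sset Q B v f x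
  zero_mem' := ⟨Submodule.zero_mem _, by rw [sGL_zero_right C hv]; exact one_mem _⟩
  add_mem' := fun {a b} ha hb => ⟨Submodule.add_mem _ ha.1 hb.1, by
    rw [← sGL_mul C hv (X.left ha.1) (X.left hb.1)]; exact mul_mem ha.2 hb.2⟩
  neg_mem' := fun {a} ha => ⟨Submodule.neg_mem _ ha.1, by
    rw [← sGL_inv C hv (X.left ha.1)]; exact inv_mem ha.2⟩

/-- `sset` is constant along the orbits of the elements with centre `v`. -/
theorem sset_mv {w : ι → F} (hw : w ∈ X B v f) (x : α) :
    sset Q B v f (mv Q B (sGL Q B v w) x) = sset Q B v f x := by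
  have key : ∀ w ∈ X B v f, ∀ x : α,
      sset Q B v f (mv Q B (sGL Q B v w) x) ⊆ sset Q B v f x := by
    intro w hw x z hz
    refine ⟨hz.1, ?_⟩
    have := conj_mem_Stab (sGL_mem_K C hv hw) hz.2
    rwa [sGL_inv C hv (X.left hw),
      sGL_mul C hv (by rw [map_neg, X.left hw, neg_zero]) (X.left hz.1),
      sGL_mul C hv (by rw [map_add, map_neg, X.left hw, X.left hz.1]; simp) (X.left hw),
      show -w + z + w = z by abel] at this
  refine (key w hw x).antisymm ?_
  have := key (-w) (Submodule.neg_mem _ hw) (mv Q B (sGL Q B v w) x)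
  rwa [← sGL_inv C hv (X.left hw), mv_inv (sGL_mem_K C hv hw)] at this

end

variable {p : ℕ} [Fact p.Prime] (τ : F →+ ZMod p)

/-- The annihilator of `sset`. -/
def aset (Q : (ι → F) → F) (B : LinearMap.BilinForm F (ι → F)) [MulAction ↥(Root Q B ⊤) α]
    (v f : ι → F) (x : α) : AddSubgroup (ι → F) :=
  ann B τ (X B v f) (sset Q B v f x)

theorem aset_le {x : α} {a : ι → F} (ha : a ∈ aset τ Q B v f x) : a ∈ X B v f := ha.1

/-- The map induced on parameters by an element scaling the frame. -/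
def tr (g : GL ι F) (c : F) : (ι → F) →+ (ι → F) :=
  ((c⁻¹ : F) • Matrix.mulVecLin g.val).toAddMonoidHom

theorem tr_apply (g : GL ι F) (c : F) (a : ι → F) : tr g c a = c⁻¹ • g.val *ᵥ a := rfl

theorem tr_injective (g : GL ι F) {c : F} (hc : c ≠ 0) : Function.Injective (tr g c) :=
  fun a b h => act_injective g (smul_right_injective _ (inv_ne_zero hc) h)

section

variable (C : Space Q B)

include C

theorem aset_mv (hv : Q v = 0) {w : ι → F} (hw : w ∈ X B v f) (x : α) :
    aset τ Q B v f (mv Q B (sGL Q B v w) x) = aset τ Q B v f x := by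
  rw [aset, sset_mv C hv hw, aset]

theorem tr_mem (h : Hyp Q B ⊤ v f) {v' f' : ι → F} (h' : Hyp Q B ⊤ v' f') {g : GL ι F}
    (hg : g ∈ Root Q B ⊤) {c : F} (hc : c ≠ 0) (hgv : g.val *ᵥ v = c • v')
    (hgf : g.val *ᵥ f = c⁻¹ • f') {x : α} {a : ι → F} (ha : a ∈ aset τ Q B v f x) :
    tr g c a ∈ aset τ Q B v' f' (mv Q B g x) := by
  have hI := root_le_iso C _ hg
  refine ⟨Submodule.smul_mem _ _ (act_mem_X C h hI hc hgv hgf ha.1), ?_⟩
  rintro w ⟨hwX, hw⟩
  have hgv' : (g⁻¹ : GL ι F).val *ᵥ v' = c⁻¹ • v := by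
    rw [show v' = c⁻¹ • g.val *ᵥ v by rw [hgv, smul_smul, inv_mul_cancel₀ hc, one_smul],
      Matrix.mulVec_smul, inv_act]
  have hgf' : (g⁻¹ : GL ι F).val *ᵥ f' = c • f := by
    rw [show f' = c • g.val *ᵥ f by rw [hgf, smul_smul, mul_inv_cancel₀ hc, one_smul],
      Matrix.mulVec_smul, inv_act]
  set u := (g⁻¹ : GL ι F).val *ᵥ w with hu
  have huX : u ∈ X B v f :=
    act_mem_X C h' (inv_mem hI) (inv_ne_zero hc) hgv' (by rw [inv_inv]; exact hgf') hwX
  have h1 := conj_mem_Stab hg hw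
  have h2 := sGL_conj C h'.singE (X.left hwX) (inv_mem hI)
  rw [inv_inv, hgv', ← hu, sGL_smul C h.singE (X.left huX)] at h2
  rw [h2] at h1
  have h3 := ha.2 _ ⟨Submodule.smul_mem _ _ huX, h1⟩
  rw [tr_apply, map_smul, LinearMap.smul_apply, C.B_act_left hI, ← hu]
  rw [map_smul] at h3
  exact h3

theorem aset_transport (h : Hyp Q B ⊤ v f) {v' f' : ι → F} (h' : Hyp Q B ⊤ v' f') {g : GL ι F}
    (hg : g ∈ Root Q B ⊤) {c : F} (hc : c ≠ 0) (hgv : g.val *ᵥ v = c • v')
    (hgf : g.val *ᵥ f = c⁻¹ • f') (x : α) :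
    (aset τ Q B v f x).map (tr g c) = aset τ Q B v' f' (mv Q B g x) := by
  refine le_antisymm (AddSubgroup.map_le_iff_le_comap.mpr fun a ha =>
    tr_mem τ C h h' hg hc hgv hgf ha) fun b hb => ?_
  have hgv' : (g⁻¹ : GL ι F).val *ᵥ v' = c⁻¹ • v := by
    rw [show v' = c⁻¹ • g.val *ᵥ v by rw [hgv, smul_smul, inv_mul_cancel₀ hc, one_smul],
      Matrix.mulVec_smul, inv_act]
  have hgf' : (g⁻¹ : GL ι F).val *ᵥ f' = c⁻¹⁻¹ • f := by
    rw [inv_inv, show f' = c • g.val *ᵥ f by rw [hgf, smul_smul, mul_inv_cancel₀ hc, one_smul],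
      Matrix.mulVec_smul, inv_act]
  have := tr_mem τ C h' h (inv_mem hg) (inv_ne_zero hc) hgv' hgf' hb
  rw [mv_inv hg] at this
  refine ⟨_, this, ?_⟩
  rw [tr_apply, tr_apply, inv_inv, Matrix.mulVec_smul, act_inv, smul_smul,
    inv_mul_cancel₀ hc, one_smul]

/-- Transport by an element which fixes the frame. -/
theorem aset_fix (h : Hyp Q B ⊤ v f) {g : GL ι F} (hg : g ∈ Root Q B ⊤)
    (hgv : g.val *ᵥ v = v) (hgf : g.val *ᵥ f = f) (x : α) :
    (aset τ Q B v f x).map (tr g 1) = aset τ Q B v f (mv Q B g x) :=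
  aset_transport τ C h h hg one_ne_zero (by rw [hgv, one_smul])
    (by rw [hgf, inv_one, one_smul]) x

end

section Finite

variable [Finite F] (C : Space Q B) (hτ : τ ≠ 0)

include C hτ

/-- The subgroup of parameters fixing a point is recovered from its annihilator. -/
theorem mem_sset_of_ann (h : Hyp Q B ⊤ v f) {x : α} {w : ι → F} (hw : w ∈ X B v f)
    (ha : ∀ a ∈ aset τ Q B v f x, τ (B a w) = 0) : sGL Q B v w ∈ Stab Q B x :=
  ((dual_main C hτ (X_ndeg C h) (sgroup C h.singE x) fun _ hz => hz.1).2 w hw ha).2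

/-- A subspace of parameters fixing a point is perpendicular to its annihilator. -/
theorem perp_of_subset {x : α} {U : Submodule F (ι → F)}
    (hU : ∀ w ∈ U, w ∈ sset Q B v f x) {a : ι → F} (ha : a ∈ aset τ Q B v f x) {w : ι → F}
    (hw : w ∈ U) : B a w = 0 :=
  B_eq_zero_of_hom hτ fun t => ha.2 _ (hU _ (U.smul_mem t hw))

/-- The orbit of the elements with centre `v`. -/
theorem card_orbit (h : Hyp Q B ⊤ v f) (x : α) :
    Nat.card ↥((fun w => mv Q B (sGL Q B v w) x) '' (X B v f : Set (ι → F))) =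
      Nat.card ↥(aset τ Q B v f x) := by
  classical
  let φ : Multiplicative ↥(X B v f) →* ↥(Root Q B ⊤) :=
    { toFun := fun w => ⟨sGL Q B v (Multiplicative.toAdd w).1,
        sGL_mem_K C h.singE (Multiplicative.toAdd w).2⟩
      map_one' := Subtype.ext (sGL_zero_right C h.singE)
      map_mul' := fun a b => Subtype.ext
        (sGL_mul C h.singE (X.left (Multiplicative.toAdd a).2)
          (X.left (Multiplicative.toAdd b).2)).symm }
  letI : MulAction (Multiplicative ↥(X B v f)) α := MulAction.compHom α φ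
  have hs : ∀ w : Multiplicative ↥(X B v f), w • x = mv Q B (sGL Q B v (Multiplicative.toAdd w).1) x :=
    fun w => (mv_eq _ x).symm
  have horb : MulAction.orbit (Multiplicative ↥(X B v f)) x =
      (fun w => mv Q B (sGL Q B v w) x) '' (X B v f : Set (ι → F)) := by
    ext y
    constructor
    · rintro ⟨w, rfl⟩
      exact ⟨_, (Multiplicative.toAdd w).2, (hs w).symm⟩
    · rintro ⟨w, hw, rfl⟩
      exact ⟨Multiplicative.ofAdd ⟨w, hw⟩, hs _⟩
  have e : ↥(MulAction.stabilizer (Multiplicative ↥(X B v f)) x) ≃ ↥(sgroup (f := f) C h.singE x) :=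
    { toFun := fun w => ⟨(Multiplicative.toAdd w.1).1, (Multiplicative.toAdd w.1).2,
        (mem_Stab (sGL_mem_K C h.singE (Multiplicative.toAdd w.1).2)).mpr ((hs _).symm.trans w.2)⟩
      invFun := fun w => ⟨Multiplicative.ofAdd ⟨w.1, w.2.1⟩, (hs _).trans (mv_of_mem w.2.2)⟩
      left_inv := fun w => rfl
      right_inv := fun w => rfl }
  have h1 := Subgroup.index_mul_card (MulAction.stabilizer (Multiplicative ↥(X B v f)) x)
  rw [MulAction.index_stabilizer, horb, ← Nat.card_coe_set_eq, Nat.card_congr e,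
    Nat.card_congr Multiplicative.toAdd] at h1
  have h2 := (dual_main C hτ (X_ndeg C h) (sgroup C h.singE x) fun _ hz => hz.1).1
  exact Nat.eq_of_mul_eq_mul_right Nat.card_pos (h1.trans h2.symm)

variable [Fintype α]

/-- A fibre of `aset` contains a whole orbit. -/
theorem card_le_fibre [DecidableEq (AddSubgroup (ι → F))] (h : Hyp Q B ⊤ v f) (x : α) :
    Nat.card ↥(aset τ Q B v f x) ≤
      (Finset.univ.filter fun y : α => aset τ Q B v f y = aset τ Q B v f x).card := by
  rw [← card_orbit τ C hτ h x, ← Fintype.card_subtype, ← Nat.card_eq_fintype_card]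
  refine Nat.card_le_card_of_injective (fun y => ⟨y.1, ?_⟩) fun y z he =>
    Subtype.ext (congrArg (fun y => y.1) he)
  obtain ⟨y, w, hw, rfl⟩ := y
  exact aset_mv τ C h.singE hw x

/-- A fibre with two orbits is at least twice as large. -/
theorem two_mul_le_fibre [DecidableEq (AddSubgroup (ι → F))] (h : Hyp Q B ⊤ v f) (x : α) {y : α}
    (hy : aset τ Q B v f y = aset τ Q B v f x)
    (hne : ∀ w ∈ X B v f, mv Q B (sGL Q B v w) x ≠ y) :
    2 * Nat.card ↥(aset τ Q B v f x) ≤
      (Finset.univ.filter fun z : α => aset τ Q B v f z = aset τ Q B v f x).card := by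
  classical
  set O : α → Finset α := fun x =>
    ((fun w => mv Q B (sGL Q B v w) x) '' (X B v f : Set (ι → F))).toFinset with hO
  have hcard : ∀ x, (O x).card = Nat.card ↥(aset τ Q B v f x) := fun x => by
    rw [← card_orbit τ C hτ h x, hO, Set.toFinset_card, Nat.card_eq_fintype_card]
  have hdisj : Disjoint (O x) (O y) := by
    rw [Finset.disjoint_left]
    intro z hzx hzy
    simp only [hO, Set.mem_toFinset, Set.mem_image, SetLike.mem_coe] at hzx hzy
    obtain ⟨w, hw, rfl⟩ := hzx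
    obtain ⟨w', hw', he⟩ := hzy
    refine hne (-w' + w) (Submodule.add_mem _ (Submodule.neg_mem _ hw') hw) ?_
    rw [← sGL_mul C h.singE (by rw [map_neg, X.left hw', neg_zero]) (X.left hw),
      mv_mul (sGL_mem_K C h.singE (Submodule.neg_mem _ hw')) (sGL_mem_K C h.singE hw), ← he,
      ← sGL_inv C h.singE (X.left hw'), mv_inv (sGL_mem_K C h.singE hw')]
  calc 2 * Nat.card ↥(aset τ Q B v f x) = (O x ∪ O y).card := by
        rw [Finset.card_union_of_disjoint hdisj, hcard, hcard, hy]; ring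
    _ ≤ _ := Finset.card_le_card fun z hz => by
      rw [Finset.mem_filter]
      refine ⟨Finset.mem_univ _, ?_⟩
      rcases Finset.mem_union.mp hz with hz | hz <;>
        simp only [hO, Set.mem_toFinset, Set.mem_image, SetLike.mem_coe] at hz <;>
        obtain ⟨w, hw, rfl⟩ := hz
      · exact aset_mv τ C h.singE hw x
      · rw [aset_mv τ C h.singE hw y, hy]

end Finite

/-- The distinct annihilators at a frame. -/
noncomputable def asets [Fintype α] (Q : (ι → F) → F) (B : LinearMap.BilinForm F (ι → F))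
    [MulAction ↥(Root Q B ⊤) α] (v f : ι → F) : Finset (AddSubgroup (ι → F)) :=
  letI := Classical.decEq (AddSubgroup (ι → F))
  Finset.univ.image fun x : α => aset τ Q B v f x

end

end Cfsg.Lib.Linear.MinIndexOrth
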