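import Cfsg.Agent.Lib.Linear.MinIndexOrth.Shape

/-!
# Counting when some annihilator is a maximal totally singular subspace
-/

set_option autoImplicit false

namespace Cfsg.Lib.Linear.MinIndexOrth

open Module Cfsg.Lib.Linear.Orth
open scoped Matrix

noncomputable section

variable {ι : Type} [Fintype ι] [DecidableEq ι] {F : Type*} [Field F] [Finite F]
  {Q : (ι → F) → F} {B : LinearMap.BilinForm F (ι → F)} {p : ℕ} [Fact p.Prime]
  {τ : F →+ ZMod p} {α : Type*} [MulAction ↥(Root Q B ⊤) α]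

omit [Finite F] in
theorem nonLine_of_map {A : AddSubgroup (ι → F)} (g : GL ι F) {c : F} (hc : c ≠ 0)
    (hA : NonLine (A.map (tr g c))) : NonLine A := fun u => by
  obtain ⟨_, ⟨a, ha, rfl⟩, hau⟩ := hA (g.val *ᵥ u)
  refine ⟨a, ha, fun hm => hau ?_⟩
  obtain ⟨t, rfl⟩ := Submodule.mem_span_singleton.mp hm
  exact Submodule.mem_span_singleton.mpr
    ⟨c⁻¹ * t, by rw [tr_apply, Matrix.mulVec_smul, smul_smul]⟩

/-- The numerical hypotheses and the failure of the bound. -/
structure Bad (Q : (ι → F) → F) (B : LinearMap.BilinForm F (ι → F)) (τ : F →+ ZMod p)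
    (α : Type*) : Prop extends Setup Q B τ α where
  few : (Nat.card F - 1) * Nat.card α < singNum Q
  seven : Fintype.card ι = 7 → singNum Q + 1 ≤ Nat.card F ^ 6
  eight : Fintype.card ι = 8 →
    singNum Q + Nat.card F ^ 3 + 1 ≤ Nat.card F ^ 7 + Nat.card F ^ 4

variable [Fintype α] [MulAction.IsPretransitive ↥(Root Q B ⊤) α] (S : Bad Q B τ α) {v f : ι → F}
  (h : Hyp Q B ⊤ v f)

include S h

/-- A non-line annihilator consists of singular vectors. -/
theorem Bad.singular {x : α} (hnl : NonLine (aset τ Q B v f x)) :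
    ∀ a ∈ aset τ Q B v f x, Q a = 0 := by
  intro a ha
  by_contra hQa
  rcases nonsing_cases S.toSetup h ha hQa with hline | hfull
  · obtain ⟨b, hb, hba⟩ := hnl a
    exact hba (hline b hb)
  · have := singNum_le_of_full S.toSetup h hfull
    have := S.few
    omega

theorem Bad.shape {x : α} (hnl : NonLine (aset τ Q B v f x)) :
    ((Fintype.card ι = 7 ∧ finrank F ↥(spanA (aset τ Q B v f x)) = 2) ∨
      (Fintype.card ι = 8 ∧ finrank F ↥(spanA (aset τ Q B v f x)) = 3)) ∧
    (∀ y, y ∈ spanA (aset τ Q B v f x) ↔ y ∈ aset τ Q B v f x) ∧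
    Nat.card ↥(aset τ Q B v f x) = Nat.card F ^ finrank F ↥(spanA (aset τ Q B v f x)) := by
  obtain ⟨h1, h2⟩ := nonline_shape S.toSetup h (S.singular h hnl) hnl
  have h3 : ∀ y, y ∈ spanA (aset τ Q B v f x) ↔ y ∈ aset τ Q B v f x :=
    fun y => ⟨h2 y, fun hy => Submodule.subset_span hy⟩
  refine ⟨h1, h3, ?_⟩
  rw [← card_submodule]
  exact Nat.card_congr (Equiv.subtypeEquivRight fun y => (h3 y).symm)

open scoped Classical in
/-- The number of non-line annihilators with an invariant property. -/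
theorem Bad.card_lower {P : AddSubgroup (ι → F) → Prop} (hP : Invariant Q B v f P)
    (hPN : ∀ A, P A → NonLine A) {x : α} (hx : P (aset τ Q B v f x)) :
    (Nat.card F + 1) * (Nat.card F ^ 2 + 1) ≤ ((asets (α := α) τ Q B v f).filter P).card := by
  classical
  have C := S.space
  have hsing := S.singular h (hPN _ hx)
  obtain ⟨hWX, hWQ, hWB⟩ := totally_singular S.toBase h hsing
  obtain ⟨hcase, hW, -⟩ := S.shape h (hPN _ hx)
  set W := spanA (aset τ Q B v f x) with hWdef
  obtain ⟨a, ha, ha0⟩ := hPN _ hx 0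
  have ha0' : a ≠ 0 := fun h0 => ha0 (by rw [h0]; exact Submodule.zero_mem _)
  obtain ⟨w, hw, hwa⟩ := hPN _ hx a
  obtain ⟨b, hb, hQb, hba, hbw⟩ :=
    exists_partner S.toBase h hWX hWQ hWB ((hW a).mpr ha) ((hW w).mpr hw) hwa
  obtain ⟨R, hcard, hinj, hR⟩ := exists_movers S.toBase h hWX hWB hWQ ((hW a).mpr ha)
    ((hW w).mpr hw) hb hQb hba hbw
  have hR' := members_le S.toBase h ha hP hx (R := R) (fun g hg => ⟨(hR g hg).1, (hR g hg).2.1⟩)
    (fun g hg g' hg' he => hinj hg hg' (by
      simp only [hWdef, ← spanA_map]; exact congrArg spanA he))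
  have hRq : Nat.card F + 1 ≤ R.card := by
    have hpow : Nat.card F ^ (Fintype.card ι - 4) = Nat.card F ^ finrank F W * Nat.card F := by
      rw [← pow_succ]
      rcases hcase with ⟨h1, h2⟩ | ⟨h1, h2⟩ <;> rw [h1, h2]
    rw [hpow] at hcard
    exact Nat.le_of_mul_le_mul_left (by rw [mul_add, mul_one]; exact hcard)
      (pow_pos Nat.card_pos _)
  set Cs := (cls Q (X B v f) a).toFinite.toFinset
  set T := (asets (α := α) τ Q B v f).filter P
  have hcov := cover_le S.toBase h (T := T) (Cs := Cs) (k := Nat.card F + 1)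
    (s := Nat.card F ^ finrank F W - 1) (fun c hc => by
      refine (hRq.trans (hR'.trans (spread (α := α) S.toBase h (aset_le τ ha) ha0' hP
        ((Set.Finite.mem_toFinset _).mp hc)))).trans (Finset.card_le_card fun A hA => ?_)
      simp only [Finset.mem_filter] at hA
      exact Finset.mem_filter.mpr ⟨Finset.mem_filter.mpr ⟨hA.1, hA.2.2⟩, hA.2.1⟩)
    (fun A hA => by
      obtain ⟨hA, hPA⟩ := Finset.mem_filter.mp hA
      obtain ⟨y, rfl⟩ := mem_asets.mp hA
      obtain ⟨hcase', -, hcy⟩ := S.shape h (hPN _ hPA)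
      have hdd : finrank F ↥(spanA (aset τ Q B v f y)) = finrank F W := by omega
      rw [← hdd, ← hcy,
        show Nat.card ↥(aset τ Q B v f y) = (aset τ Q B v f y : Set (ι → F)).toFinite.toFinset.card
          from Nat.card_eq_card_finite_toFinset _]
      rw [← Finset.card_erase_of_mem
        (s := (aset τ Q B v f y : Set (ι → F)).toFinite.toFinset) (a := 0) (by simp)]
      refine Finset.card_le_card fun c hc => ?_
      obtain ⟨hc, hcA⟩ := Finset.mem_filter.mp hc
      exact Finset.mem_erase.mpr ⟨((Set.Finite.mem_toFinset _).mp hc).2.1, by simpa using hcA⟩)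
  rw [← Set.ncard_eq_toFinset_card] at hcov
  have hc0 := cls_zero_ncard C (X B v f) (hsing a ha)
  have hq := S.q4
  set c := (cls Q (X B v f) a).ncard
  have hX := MinIndexOrth.finrank_X C h
  rcases hcase with ⟨h7, hd⟩ | ⟨h8, hd⟩
  · have hl := level_zero_five C (X_ndeg C h) (by omega) hWX hWQ (by omega)
    rw [hd] at hcov
    obtain ⟨r, hq'⟩ : ∃ r, Nat.card F = r + 1 := ⟨Nat.card F - 1, by omega⟩
    rw [hq'] at hcov hl hq ⊢
    have h2 : (r + 1) ^ 2 - 1 = r * (r + 2) := by
      rw [show (r + 1) ^ 2 = r * (r + 2) + 1 by ring, Nat.add_sub_cancel]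
    rw [h2] at hcov
    have hc' : r * (r + 2) * ((r + 1) ^ 2 + 1) ≤ c := by nlinarith
    refine Nat.le_of_mul_le_mul_right ?_ (show 0 < r * (r + 2) by
      have : 0 < r := by omega
      positivity)
    calc (r + 1 + 1) * ((r + 1) ^ 2 + 1) * (r * (r + 2))
        = (r + 1 + 1) * (r * (r + 2) * ((r + 1) ^ 2 + 1)) := by ring
      _ ≤ (r + 1 + 1) * c := Nat.mul_le_mul_left _ hc'
      _ ≤ _ := hcov
  · have hl := level_zero_six C (X_ndeg C h) (by omega) hWX hWQ (by omega)
    rw [hd] at hcov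
    obtain ⟨r, hq'⟩ : ∃ r, Nat.card F = r + 1 := ⟨Nat.card F - 1, by omega⟩
    rw [hq'] at hcov hl hq ⊢
    have h2 : (r + 1) ^ 3 - 1 = r * (r ^ 2 + 3 * r + 3) := by
      rw [show (r + 1) ^ 3 = r * (r ^ 2 + 3 * r + 3) + 1 by ring, Nat.add_sub_cancel]
    rw [h2] at hcov
    have hc' : r * (r ^ 2 + 3 * r + 3) * ((r + 1) ^ 2 + 1) ≤ c := by nlinarith
    refine Nat.le_of_mul_le_mul_right ?_ (show 0 < r * (r ^ 2 + 3 * r + 3) by
      have : 0 < r := by omega
      positivity)
    calc (r + 1 + 1) * ((r + 1) ^ 2 + 1) * (r * (r ^ 2 + 3 * r + 3))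
        = (r + 1 + 1) * (r * (r ^ 2 + 3 * r + 3) * ((r + 1) ^ 2 + 1)) := by ring
      _ ≤ (r + 1 + 1) * c := Nat.mul_le_mul_left _ hc'
      _ ≤ _ := hcov

open scoped Classical in
/-- The non-line annihilators account for nearly all points. -/
theorem Bad.sum_lower {P : AddSubgroup (ι → F) → Prop} (hP : Invariant Q B v f P)
    (hPN : ∀ A, P A → NonLine A) {x : α} (hx : P (aset τ Q B v f x)) :
    Nat.card F ^ (Fintype.card ι - 5) * ((Nat.card F + 1) * (Nat.card F ^ 2 + 1)) ≤
      ∑ A ∈ (asets (α := α) τ Q B v f).filter P, Nat.card ↥A := by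
  classical
  rw [mul_comm]
  refine (Nat.mul_le_mul_right _ (S.card_lower h hP hPN hx)).trans ?_
  rw [← smul_eq_mul]
  refine Finset.card_nsmul_le_sum _ _ _ fun A hA => ?_
  obtain ⟨hA, hPA⟩ := Finset.mem_filter.mp hA
  obtain ⟨y, rfl⟩ := mem_asets.mp hA
  obtain ⟨hcase, -, hcy⟩ := S.shape h (hPN _ hPA)
  rw [hcy]
  exact (congrArg _ (by omega)).le

omit [Fintype α] [MulAction.IsPretransitive ↥(Root Q B ⊤) α] in
/-- The numerical gap between the singular lines and the non-line annihilators. -/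
theorem Bad.gap (hcase : Fintype.card ι = 7 ∨ Fintype.card ι = 8) :
    singNum Q + 1 ≤ (Nat.card F - 1) * (Nat.card F ^ (Fintype.card ι - 5) *
      ((Nat.card F + 1) * (Nat.card F ^ 2 + 1))) + Nat.card F ^ (2 * (Fintype.card ι - 6)) := by
  obtain ⟨r, hq'⟩ : ∃ r, Nat.card F = r + 1 := ⟨Nat.card F - 1, by have := S.q4; omega⟩
  rcases hcase with h7 | h8
  · have := S.seven h7
    rw [h7, hq'] at *
    simp only [Nat.add_sub_cancel]
    ring_nf at this ⊢
    omega
  · have := S.eight h8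
    rw [h8, hq'] at *
    simp only [Nat.add_sub_cancel]
    ring_nf at this ⊢
    omega

/-- Next to a non-line annihilator every other one is trivial. -/
theorem Bad.others_trivial {x : α} (hx : NonLine (aset τ Q B v f x)) {y : α}
    (hy : ¬ NonLine (aset τ Q B v f y)) : ∀ a ∈ aset τ Q B v f y, a = 0 := by
  classical
  intro a ha
  by_contra ha0
  have C := S.space
  have hcase : Fintype.card ι = 7 ∨ Fintype.card ι = 8 :=
    (S.shape h hx).1.imp And.left And.left
  obtain ⟨P, hPdef⟩ : ∃ P : AddSubgroup (ι → F) → Prop, ∀ A, P A ↔ ¬ NonLine A :=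
    ⟨_, fun A => Iff.rfl⟩
  have hP : Invariant Q B v f P := fun g c _ hc _ _ A _ hA =>
    (hPdef _).mpr fun hA' => (hPdef A).mp hA (nonLine_of_map g hc hA')
  set T₁ := (asets (α := α) τ Q B v f).filter fun A => NonLine A
  set T₂ := (asets (α := α) τ Q B v f).filter fun A => ¬ NonLine A
  have hcov := cover_sum S.toBase h (T := T₂) (Cs := (cls Q (X B v f) a).toFinite.toFinset) (k := 1)
    fun c hc => by
      obtain ⟨A, hA⟩ := Finset.card_pos.mp (lt_of_lt_of_le
        (Finset.card_pos.mpr ⟨_, Finset.mem_filter.mpr ⟨mem_asets.mpr ⟨y, rfl⟩, ha, (hPdef _).mpr hy⟩⟩)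
        (spread (α := α) S.toBase h (aset_le τ ha) ha0 hP ((Set.Finite.mem_toFinset _).mp hc)))
      obtain ⟨h1, h2, h3⟩ := Finset.mem_filter.mp hA
      exact Finset.card_pos.mpr ⟨A, Finset.mem_filter.mpr ⟨Finset.mem_filter.mpr ⟨h1, (hPdef A).mp h3⟩, h2⟩⟩
  rw [one_mul, ← Set.ncard_eq_toFinset_card] at hcov
  have hsum := sum_card_le S.toBase h (T := asets (α := α) τ Q B v f) subset_rfl
  rw [← Finset.sum_filter_add_sum_filter_not _ (fun A => NonLine A)] at hsum
  have hlow := S.sum_lower h (P := NonLine) (invariant_nonLine v f) (fun A hA => hA) hx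
  have hgap := S.gap h hcase
  have hfew := S.few
  obtain ⟨j, hj, hjX⟩ := S.toSetup.finrank_X h
  have hcls : Nat.card F ^ (j + 2) * (Nat.card F ^ 2 - 1) ≤ 2 * (cls Q (X B v f) a).ncard + 1 := by
    by_cases hQa : Q a = 0
    · have := level_lower C (X_ndeg C h) hjX 0
      rw [← cls_zero_ncard C (X B v f) hQa] at this
      omega
    · refine (Nat.le_mul_of_pos_left _ ?_).trans ((cls_bound S.toBase h hQa hj).1.trans
        (Nat.le_succ _))
      have := S.q4
      omega
  have hq := S.q4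
  obtain ⟨r, hq'⟩ : ∃ r, Nat.card F = r + 4 := ⟨Nat.card F - 4, by omega⟩
  have hN : Nat.card F ^ (Fintype.card ι - 5) * ((Nat.card F + 1) * (Nat.card F ^ 2 + 1)) +
      (cls Q (X B v f) a).ncard ≤ Nat.card α :=
    le_trans (Nat.add_le_add hlow hcov) hsum
  set c := (cls Q (X B v f) a).ncard
  set Z := singNum Q
  have h1 := Nat.mul_le_mul_left (Nat.card F - 1) hN
  rw [mul_add] at h1
  have key : Nat.card F ^ (2 * (Fintype.card ι - 6)) ≤ (Nat.card F - 1) * c := by
    rcases hcase with h7 | h8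
    · obtain rfl : j = 0 := by omega
      rw [h7]
      rw [hq'] at hcls ⊢
      rw [show (r + 4) ^ 2 - 1 = (r + 3) * (r + 5) by
        rw [show (r + 4) ^ 2 = (r + 3) * (r + 5) + 1 by ring, Nat.add_sub_cancel]] at hcls
      simp only [show r + 4 - 1 = r + 3 by omega]
      ring_nf at hcls ⊢
      nlinarith [Nat.zero_le (c * r), Nat.zero_le r, Nat.zero_le (r ^ 2)]
    · obtain rfl : j = 1 := by omega
      rw [h8]
      rw [hq'] at hcls ⊢
      rw [show (r + 4) ^ 2 - 1 = (r + 3) * (r + 5) by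
        rw [show (r + 4) ^ 2 = (r + 3) * (r + 5) + 1 by ring, Nat.add_sub_cancel]] at hcls
      simp only [show r + 4 - 1 = r + 3 by omega]
      ring_nf at hcls ⊢
      nlinarith [Nat.mul_le_mul_left r hcls, Nat.zero_le (r ^ 2), Nat.zero_le (r ^ 3),
        Nat.zero_le (r ^ 4), Nat.zero_le (r ^ 5), Nat.zero_le (r ^ 6)]
  omega

/-- A non-line annihilator belongs to a single orbit. -/
theorem Bad.one_orbit {x : α} (hx : NonLine (aset τ Q B v f x)) {y : α}
    (hy : aset τ Q B v f y = aset τ Q B v f x) :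
    ∃ w ∈ X B v f, mv Q B (sGL Q B v w) x = y := by
  classical
  by_contra hne
  push Not at hne
  have C := S.space
  have hcase : Fintype.card ι = 7 ∨ Fintype.card ι = 8 :=
    (S.shape h hx).1.imp And.left And.left
  set fib : AddSubgroup (ι → F) → ℕ := fun A =>
    ((Finset.univ : Finset α).filter fun z => aset τ Q B v f z = A).card with hfib
  obtain ⟨P, hPdef⟩ : ∃ P : AddSubgroup (ι → F) → Prop,
      ∀ A, P A ↔ NonLine A ∧ 2 * Nat.card ↥A ≤ fib A := ⟨_, fun A => Iff.rfl⟩
  have hP : Invariant Q B v f P := fun g c hg hc hgv hgf A _ hA => by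
    rw [hPdef] at hA ⊢
    refine ⟨nonLine_map hA.1 g hc, ?_⟩
    rw [← Nat.card_congr (A.equivMapOfInjective (tr g c) (tr_injective g hc)).toEquiv]
    refine hA.2.trans (Finset.card_le_card_of_injOn (mv Q B g) (fun z hz => ?_) fun z _ z' _ he => ?_)
    · simp only [Finset.coe_filter, Finset.mem_univ, true_and, Set.mem_setOf_eq] at hz ⊢
      rw [← aset_transport τ C h h hg hc hgv hgf, hz]
    · rw [← mv_inv hg z, he, mv_inv hg]
  have hPx : P (aset τ Q B v f x) := (hPdef _).mpr ⟨hx, two_mul_le_fibre τ C S.tau h x hy hne⟩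
  have hlow := S.sum_lower h hP (fun A hA => ((hPdef A).mp hA).1) hPx
  have h2 : 2 * ∑ A ∈ (asets (α := α) τ Q B v f).filter P, Nat.card ↥A ≤ Nat.card α := by
    rw [Finset.mul_sum, Nat.card_eq_fintype_card, ← Finset.card_univ,
      Finset.card_eq_sum_card_fiberwise (f := fun x : α => aset τ Q B v f x)
        (t := asets (α := α) τ Q B v f) (fun x _ => mem_asets.mpr ⟨x, rfl⟩)]
    exact (Finset.sum_le_sum fun A hA => ((hPdef A).mp (Finset.mem_filter.mp hA).2).2).trans
      (Finset.sum_le_sum_of_subset (Finset.filter_subset _ _))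
  have hgap := S.gap h hcase
  have hfew := S.few
  have h3 := Nat.mul_le_mul_left (Nat.card F - 1) ((Nat.mul_le_mul_left 2 hlow).trans h2)
  rw [show ∀ m n : ℕ, m * (2 * n) = m * n + m * n from fun m n => by ring] at h3
  set D := (Nat.card F - 1) * (Nat.card F ^ (Fintype.card ι - 5) *
    ((Nat.card F + 1) * (Nat.card F ^ 2 + 1))) with hD
  have hbig : Nat.card F ^ (2 * (Fintype.card ι - 6)) ≤ D := by
    have h1 : 1 ≤ Nat.card F - 1 := by have := S.q4; omega
    refine le_trans ?_ (Nat.le_mul_of_pos_left _ h1)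
    rcases hcase with h7 | h8
    · rw [h7]
      exact Nat.le_mul_of_pos_right _ (by positivity)
    · rw [h8, show 2 * (8 - 6) = 3 + 1 from rfl, pow_succ, show (8 - 5) = 3 from rfl]
      exact Nat.mul_le_mul_left _ (le_trans (Nat.le_succ _) (Nat.le_mul_of_pos_right _ (by positivity)))
  omega

end

end Cfsg.Lib.Linear.MinIndexOrth
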