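import Cfsg.Agent.Lib.Linear.MinIndexOrth.Space

/-!
# Duality of additive subgroups under a character composed with the bilinear form
-/

set_option autoImplicit false

namespace Cfsg.Lib.Linear.MinIndexOrth

open Module Cfsg.Lib.Linear.Orth
open scoped Matrix

variable {ι : Type} [Fintype ι] [DecidableEq ι] {F : Type*} [Field F]
  {Q : (ι → F) → F} {B : LinearMap.BilinForm F (ι → F)} {p : ℕ} [Fact p.Prime] {τ : F →+ ZMod p}

/-- A non-zero additive map to `ZMod p` forces characteristic `p`. -/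
theorem charP_of_hom (hτ : τ ≠ 0) : CharP F p := by
  refine (CharP.charP_iff_prime_eq_zero (Fact.out : p.Prime)).mpr ?_
  by_contra h
  refine hτ (AddMonoidHom.ext fun x => ?_)
  rw [show x = p • ((p : F)⁻¹ * x) by rw [nsmul_eq_mul, ← mul_assoc, mul_inv_cancel₀ h, one_mul],
    map_nsmul, nsmul_eq_mul, ZMod.natCast_self, zero_mul]
  rfl

/-- A vector whose pairings with all multiples are killed by `τ` is perpendicular. -/
theorem B_eq_zero_of_hom (hτ : τ ≠ 0) {a w : ι → F} (h : ∀ t : F, τ (B a (t • w)) = 0) :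
    B a w = 0 := by
  by_contra hne
  refine hτ (AddMonoidHom.ext fun x => ?_)
  have := h (x * (B a w)⁻¹)
  rwa [map_smul, smul_eq_mul, mul_assoc, inv_mul_cancel₀ hne, mul_one] at this

/-- The annihilator in `U` of a set of vectors. -/
def ann (B : LinearMap.BilinForm F (ι → F)) (τ : F →+ ZMod p) (U : Submodule F (ι → F))
    (S : Set (ι → F)) : AddSubgroup (ι → F) where
  carrier := {a | a ∈ U ∧ ∀ w ∈ S, τ (B a w) = 0}
  zero_mem' := ⟨U.zero_mem, fun w _ => by rw [map_zero, LinearMap.zero_apply, map_zero]⟩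
  add_mem' := fun {a b} ha hb => ⟨U.add_mem ha.1 hb.1, fun w hw => by
    rw [map_add, LinearMap.add_apply, map_add, ha.2 w hw, hb.2 w hw, add_zero]⟩
  neg_mem' := fun {a} ha => ⟨U.neg_mem ha.1, fun w hw => by
    rw [map_neg, LinearMap.neg_apply, map_neg, ha.2 w hw, neg_zero]⟩

theorem mem_ann {U : Submodule F (ι → F)} {S : Set (ι → F)} {a : ι → F} :
    a ∈ ann B τ U S ↔ a ∈ U ∧ ∀ w ∈ S, τ (B a w) = 0 := Iff.rfl

variable [Finite F]

theorem dual_main (C : Space Q B) (hτ : τ ≠ 0) {U : Submodule F (ι → F)} (hU : NDeg B U)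
    (S : AddSubgroup (ι → F)) (hSU : ∀ w ∈ S, w ∈ U) :
    Nat.card ↥(ann B τ U (S : Set (ι → F))) * Nat.card S = Nat.card U ∧
      ∀ w ∈ U, (∀ a ∈ ann B τ U (S : Set (ι → F)), τ (B a w) = 0) → w ∈ S := by
  have := charP_of_hom hτ
  have hp0 : ∀ x : ↥U, p • x = 0 := fun x => by
    rw [← Nat.cast_smul_eq_nsmul F, CharP.cast_eq_zero, zero_smul]
  haveI : Module (ZMod p) ↥U := AddCommGroup.zmodModule hp0
  haveI : Module.Finite (ZMod p) ↥U := Module.Finite.of_finite
  let L : ↥U → ↥U →+ ZMod p := fun a =>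
    τ.comp ((B a.1).toAddMonoidHom.comp U.subtype.toAddMonoidHom)
  let R : ↥U → ↥U →+ ZMod p := fun w =>
    τ.comp ((B.flip w.1).toAddMonoidHom.comp U.subtype.toAddMonoidHom)
  let T : LinearMap.BilinForm (ZMod p) ↥U :=
    LinearMap.mk₂ (ZMod p) (fun a w => τ (B a.1 w.1)) (fun a b w => map_add (R w) a b)
      (fun c a w => ZMod.map_smul (R w) c a) (fun a w z => map_add (L a) w z)
      (fun c a w => ZMod.map_smul (L a) c w)
  have hTsymm : ∀ a w : ↥U, T a w = T w a := fun a w => congrArg τ (C.symm a.1 w.1)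
  have hTnd : T.Nondegenerate := by
    have key : ∀ a, (∀ w, T a w = 0) → a = 0 := fun a ha =>
      Subtype.ext (hU a.1 a.2 fun y hy => B_eq_zero_of_hom hτ fun t => ha ⟨t • y, U.smul_mem t hy⟩)
    exact ⟨key, fun w hw => key w fun a => by rw [hTsymm]; exact hw a⟩
  have hrefl : T.IsRefl := fun a w h => by rw [hTsymm]; exact h
  let S' : Submodule (ZMod p) ↥U :=
    AddSubgroup.toZModSubmodule p (S.comap U.subtype.toAddMonoidHom)
  have hS' : ∀ w : ↥U, w ∈ S' ↔ w.1 ∈ S := fun w => Iff.rfl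
  have hmem : ∀ a : ↥U, a ∈ T.orthogonal S' ↔ a.1 ∈ ann B τ U (S : Set (ι → F)) := fun a =>
    ⟨fun h => ⟨a.2, fun w hw => by
      have := h ⟨w, hSU w hw⟩ ((hS' _).mpr hw)
      show τ (B a.1 w) = 0
      rw [C.symm]; exact this⟩,
    fun h w hw => by
      show τ (B w.1 a.1) = 0
      rw [C.symm]; exact h.2 _ ((hS' w).mp hw)⟩
  constructor
  · have e1 : ↥(ann B τ U (S : Set (ι → F))) ≃ ↥(T.orthogonal S') :=
      { toFun := fun a => ⟨⟨a.1, a.2.1⟩, (hmem _).mpr a.2⟩
        invFun := fun a => ⟨a.1.1, (hmem _).mp a.2⟩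
        left_inv := fun _ => rfl
        right_inv := fun _ => rfl }
    have e2 : ↥S ≃ ↥S' :=
      { toFun := fun w => ⟨⟨w.1, hSU _ w.2⟩, (hS' _).mpr w.2⟩
        invFun := fun w => ⟨w.1.1, (hS' _).mp w.2⟩
        left_inv := fun _ => rfl
        right_inv := fun _ => rfl }
    rw [Nat.card_congr e1, Nat.card_congr e2, Module.natCard_eq_pow_finrank (K := ZMod p),
      Module.natCard_eq_pow_finrank (K := ZMod p) (V := ↥S'),
      Module.natCard_eq_pow_finrank (K := ZMod p) (V := ↥U), ← pow_add]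
    congr 1
    rw [LinearMap.BilinForm.finrank_orthogonal hTnd,
      Nat.sub_add_cancel (Submodule.finrank_le _)]
  · intro w hw h
    have h1 : (⟨w, hw⟩ : ↥U) ∈ T.orthogonal (T.orthogonal S') := fun a ha =>
      h a.1 ((hmem a).mp ha)
    rw [LinearMap.BilinForm.orthogonal_orthogonal hTnd hrefl] at h1
    exact (hS' _).mp h1

end Cfsg.Lib.Linear.MinIndexOrth
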