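import Cfsg.Agent.Lib.Linear.MinIndexOrth.Counting

/-!
# A maximal totally singular annihilator is impossible on few points

Some point then has the centres of all vectors of a large totally singular subspace in its
stabiliser, and double counting the centres against the points gives the bound.
-/

set_option autoImplicit false

namespace Cfsg.Lib.Linear.MinIndexOrth

open Module Cfsg.Lib.Linear.Orth
open scoped Matrix

noncomputable section

variable {ι : Type} [Fintype ι] [DecidableEq ι] {F : Type*} [Field F] [Finite F]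
  {Q : (ι → F) → F} {B : LinearMap.BilinForm F (ι → F)} {p : ℕ} [Fact p.Prime]
  {τ : F →+ ZMod p} {α : Type*} [MulAction ↥(Root Q B ⊤) α]

omit [Finite F] in
theorem centre_mv (C : Space Q B) {g : GL ι F} (hg : g ∈ Root Q B ⊤) {y : α} {u : ι → F}
    (hu : Q u = 0) (hc : Centre Q B (Stab Q B y) u) :
    Centre Q B (Stab Q B (mv Q B g y)) (g.val *ᵥ u) := by
  intro a ha
  have hI := root_le_iso C _ hg
  set a' := (g⁻¹ : GL ι F).val *ᵥ a with ha'
  have hua : B u a' = 0 := by rw [← C.B_act hI, act_inv]; exact ha
  have h1 := hc a' hua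
  have h2 := sGL_conj C hu hua hI
  rw [act_inv] at h2
  rw [← h2]
  have hK := Stab_le _ h1
  rw [mem_Stab (mul_mem (mul_mem hg hK) (inv_mem hg)), mv_mul (mul_mem hg hK) (inv_mem hg),
    mv_mul hg hK, mv_inv hg, mv_of_mem h1]

variable [Fintype α] [MulAction.IsPretransitive ↥(Root Q B ⊤) α] (S : Bad Q B τ α) {v f : ι → F}
  (h : Hyp Q B ⊤ v f)

include S h

omit h in
open scoped Classical in
/-- Double counting the points against the centres of singular vectors in their stabilisers. -/
theorem Bad.double_count {o : α} {u : ι → F} (hu0 : u ≠ 0) (hQu : Q u = 0) :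
    singNum Q * (Finset.univ.filter fun y : α => Centre Q B (Stab Q B y) u).card =
      Nat.card α * {w : ι → F | (w ≠ 0 ∧ Q w = 0) ∧ Centre Q B (Stab Q B o) w}.ncard := by
  classical
  have C := S.space
  have := Fintype.ofFinite F
  set Zs := (Finset.univ : Finset (ι → F)).filter fun w => w ≠ 0 ∧ Q w = 0
  set R : (ι → F) → α → Prop := fun w y => Centre Q B (Stab Q B y) w
  have hF : ∀ w ∈ Zs, ∀ w' ∈ Zs, (Finset.univ.filter fun y : α => R w y).card ≤
      (Finset.univ.filter fun y : α => R w' y).card := by
    intro w hw w' hw'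
    obtain ⟨hw0, hQw⟩ := (Finset.mem_filter.mp hw).2
    obtain ⟨hw0', hQw'⟩ := (Finset.mem_filter.mp hw').2
    obtain ⟨g, hg, hgw⟩ := trans_top C (by have := S.n7; omega) hw0 hw0' (by rw [hQw, hQw'])
    refine Finset.card_le_card_of_injOn (mv Q B g) (fun y hy => ?_)
      fun y _ y' _ he => by rw [← mv_inv hg y, he, mv_inv hg]
    simp only [Finset.coe_filter, Finset.mem_univ, true_and, Set.mem_setOf_eq] at hy ⊢
    have := centre_mv C hg hQw hy
    rwa [hgw] at this
  have hG : ∀ y y' : α, (Zs.filter fun w => R w y).card ≤ (Zs.filter fun w => R w y').card := by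
    intro y y'
    obtain ⟨⟨g, hg⟩, hgy⟩ := MulAction.exists_smul_eq ↥(Root Q B ⊤) y y'
    refine Finset.card_le_card_of_injOn (fun w => g.val *ᵥ w) (fun w hw => ?_)
      fun w _ w' _ he => act_injective g he
    obtain ⟨hwZ, hwy⟩ := Finset.mem_filter.mp hw
    obtain ⟨hw0, hQw⟩ := (Finset.mem_filter.mp hwZ).2
    refine Finset.mem_filter.mpr ⟨Finset.mem_filter.mpr ⟨Finset.mem_univ _, act_ne_zero hw0,
      by rw [mem_iso.mp (root_le_iso C _ hg), hQw]⟩, ?_⟩
    have := centre_mv C hg hQw hwy
    rw [mv_eq hg, hgy] at this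
    exact this
  have huZ : u ∈ Zs := Finset.mem_filter.mpr ⟨Finset.mem_univ _, hu0, hQu⟩
  have h1 := Finset.sum_card_bipartiteAbove_eq_sum_card_bipartiteBelow R
    (s := Zs) (t := (Finset.univ : Finset α))
  simp only [Finset.bipartiteAbove, Finset.bipartiteBelow] at h1
  rw [Finset.sum_congr rfl fun w hw => le_antisymm (hF w hw u huZ) (hF u huZ w hw),
    Finset.sum_congr rfl fun y _ => le_antisymm (hG y o) (hG o y), Finset.sum_const,
    Finset.sum_const, smul_eq_mul, smul_eq_mul, Finset.card_univ] at h1
  rw [singNum, Nat.card_eq_fintype_card, Fintype.card_subtype, Nat.card_eq_fintype_card, h1,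
    ← Set.ncard_coe_finset]
  congr 2
  ext w
  simp [Zs, R, and_assoc]

/-- A frame with a non-line annihilator contradicts the small number of points. -/
theorem Bad.nonline_contra {x : α} (hx : NonLine (aset τ Q B v f x)) : False := by
  classical
  have C := S.space
  have h7 := S.n7
  have h5 : 5 ≤ Fintype.card ι := by omega
  have hX := X_ndeg C h
  have hdX := MinIndexOrth.finrank_X C h
  have hq := S.q4
  obtain ⟨hWX, hWQ, hWB⟩ := totally_singular S.toBase h (S.singular h hx)
  obtain ⟨hcase, hW, -⟩ := S.shape h hx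
  have hn : Fintype.card ι = 7 ∨ Fintype.card ι = 8 := hcase.imp And.left And.left
  set W := spanA (aset τ Q B v f x) with hWdef
  have hd : finrank F W + 5 = Fintype.card ι := by omega
  -- a scaling of the frame fixing a point of the orbit
  obtain ⟨μ, hμ0, hμ1⟩ : ∃ μ : F, μ ≠ 0 ∧ μ ^ 2 ≠ 1 := by
    have := Fintype.ofFinite F
    have hc : ({0, 1, -1} : Finset F).card < (Finset.univ : Finset F).card := by
      rw [Finset.card_univ, ← Nat.card_eq_fintype_card]
      have := Finset.card_le_three (a := (0 : F)) (b := 1) (c := -1)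
      omega
    obtain ⟨μ, -, hμ⟩ := Finset.exists_mem_notMem_of_card_lt_card hc
    simp only [Finset.mem_insert, Finset.mem_singleton, not_or] at hμ
    exact ⟨μ, hμ.1, fun he => (sq_eq_one_iff.mp he).elim hμ.2.1 hμ.2.2⟩
  obtain ⟨s, hs, hsv, hsf, hsX⟩ := exists_scale C h5 h hμ0
  set t := μ ^ 2
  have ht : t ≠ 0 := pow_ne_zero 2 hμ0
  have hK : ∀ w ∈ X B v f, sGL Q B v w ∈ Root Q B ⊤ := fun w hw => sGL_mem_K C h.singE hw
  have hsconj : ∀ w ∈ X B v f, s * sGL Q B v w = sGL Q B v (t • w) * s := fun w hw => by
    have h1 := sGL_conj C h.singE (X.left hw) (root_le_iso C _ hs)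
    rw [hsv, hsX w hw, sGL_smul C h.singE (X.left hw)] at h1
    rw [← h1, inv_mul_cancel_right]
  have hAs : aset τ Q B v f (mv Q B s x) = aset τ Q B v f x := by
    rw [← aset_transport τ C h h hs ht hsv hsf x]
    ext z
    constructor
    · rintro ⟨a, ha, rfl⟩
      rw [tr_apply, hsX a (aset_le τ ha)]
      exact (hW _).mp (W.smul_mem _ ((hW a).mpr ha))
    · intro hz
      refine ⟨t • z, (hW _).mp (W.smul_mem _ ((hW z).mpr hz)), ?_⟩
      rw [tr_apply, hsX _ (Submodule.smul_mem _ _ (aset_le τ hz)), smul_smul, inv_mul_cancel₀ ht,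
        one_smul]
  obtain ⟨w0, hw0, hw0x⟩ := S.one_orbit h hx hAs
  set z := (1 - t)⁻¹ • w0 with hz
  have hzX : z ∈ X B v f := Submodule.smul_mem _ _ hw0
  have h1t : (1 : F) - t ≠ 0 := sub_ne_zero.mpr (Ne.symm hμ1)
  set o := mv Q B (sGL Q B v z) x
  have hso : mv Q B s o = o := by
    rw [← mv_mul hs (hK z hzX), hsconj z hzX, mv_mul (hK _ (Submodule.smul_mem _ _ hzX)) hs,
      ← hw0x, ← mv_mul (hK _ (Submodule.smul_mem _ _ hzX)) (hK _ hw0),
      sGL_mul C h.singE (by rw [map_smul, X.left hzX, smul_zero]) (X.left hw0)]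
    congr 2
    rw [hz, smul_smul]
    match_scalars
    field_simp
    ring
  have hAo : aset τ Q B v f o = aset τ Q B v f x := aset_mv τ C h.singE hzX x
  have hperpW : ∀ w ∈ X B v f, (∀ a ∈ W, B a w = 0) → sGL Q B v w ∈ Stab Q B o := fun w hw hwa =>
    mem_sset_of_ann τ C S.tau h hw fun a ha => by
      rw [hwa a ((hW a).mpr (hAo ▸ ha)), map_zero]
  have hfix : ∀ g ∈ Root Q B (X B v f), W.map (Matrix.mulVecLin g.val) = W → g ∈ Stab Q B o := by
    intro g hg hgW
    have hgK : g ∈ Root Q B ⊤ := root_mono le_top hg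
    obtain ⟨hgv, hgf⟩ := root_fix C h hg
    have hAg : aset τ Q B v f (mv Q B g o) = aset τ Q B v f o := by
      rw [← aset_fix τ C h hgK hgv hgf, hAo]
      ext y
      constructor
      · rintro ⟨a, ha, rfl⟩
        refine (hW _).mp (hgW ▸ ?_)
        exact ⟨a, (hW a).mpr ha, by simp [tr_apply]⟩
      · intro hy
        have hy' : y ∈ W.map (Matrix.mulVecLin g.val) := by rw [hgW]; exact (hW y).mpr hy
        obtain ⟨a, ha, rfl⟩ := hy'
        exact ⟨a, (hW a).mp ha, by simp [tr_apply]⟩
    obtain ⟨w, hw, hwo⟩ := S.one_orbit h (hAo.symm ▸ hx) hAg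
    have hcomm : s * g = g * s := gl_ext fun y => by
      rw [show y = (y - B f y • v - B v y • f) + B f y • v + B v y • f by abel]
      have hyX : y - B f y • v - B v y • f ∈ X B v f := h.proj C trivial
      simp only [mul_act, Matrix.mulVec_add, Matrix.mulVec_smul, hgv, hgf, hsv, hsf,
        hsX _ hyX, hsX _ (root_mem_U C hg hyX)]
    have h1 : mv Q B s (mv Q B g o) = mv Q B g o := by
      rw [← mv_mul hs hgK, hcomm, mv_mul hgK hs, hso]
    rw [← hwo, ← mv_mul hs (hK w hw), hsconj w hw,
      mv_mul (hK _ (Submodule.smul_mem _ _ hw)) hs, hso] at h1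
    have h2 : mv Q B (sGL Q B v (t • w - w)) o = o := by
      rw [show t • w - w = -w + t • w by abel,
        ← sGL_mul C h.singE (by rw [map_neg, X.left hw, neg_zero])
          (by rw [map_smul, X.left hw, smul_zero]),
        mv_mul (hK _ (Submodule.neg_mem _ hw)) (hK _ (Submodule.smul_mem _ _ hw)), h1,
        ← sGL_inv C h.singE (X.left hw), mv_inv (hK w hw)]
    have hwX : t • w - w ∈ X B v f := Submodule.sub_mem _ (Submodule.smul_mem _ _ hw) hw
    have hmem : t • w - w ∈ sset Q B v f o := ⟨hwX, (mem_Stab (hK _ hwX)).mpr h2⟩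
    have hw' : ∀ a ∈ W, B a w = 0 := fun a ha => by
      have h3 : B a (t • w - w) = 0 := by
        rw [C.symm]
        refine B_eq_zero_of_hom S.tau fun c => ?_
        rw [C.symm]
        exact (hAo.symm ▸ (hW (c • a)).mp (W.smul_mem c ha) : c • a ∈ aset τ Q B v f o).2 _ hmem
      rw [show t • w - w = (t - 1) • w by rw [sub_smul, one_smul], map_smul, smul_eq_mul] at h3
      exact (mul_eq_zero.mp h3).resolve_left (sub_ne_zero.mpr hμ1)
    rw [mem_Stab hgK, ← hwo, mv_of_mem (hperpW w hw hw')]
  have hvW : ∀ w ∈ W, ∀ c : F, sGL Q B w (c • v) ∈ Stab Q B o := by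
    intro w hw c
    have hwv : B w v = 0 := by rw [C.symm]; exact X.left (hWX hw)
    have hQcv : Q (c • v) = 0 := by rw [C.smul, h.singE, mul_zero]
    rw [sGL_swap C (hWQ w hw) hQcv (by rw [map_smul, hwv, smul_zero]),
      sGL_smul C h.singE (by rw [map_neg, X.left (hWX hw), neg_zero])]
    exact hperpW _ (Submodule.smul_mem _ _ (Submodule.neg_mem _ (hWX hw)))
      fun a ha => hWB a ha _ (W.smul_mem _ (W.neg_mem hw))
  -- the centres at the vectors of `W`
  have hCW : ∀ w ∈ W, Centre Q B (Stab Q B o) w := by
    intro w hw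
    by_cases hw0' : w = 0
    · intro a _
      rw [hw0', sGL_trivial C]; exact one_mem _
    obtain ⟨w', hH⟩ := exists_hyp C hX (hWX hw) hw0' (hWQ w hw)
    have h' : Hyp Q B ⊤ w w' := Hyp.mono C hH le_top
    have hsub : ∀ y ∈ perp2 B (X B v f) w w', y ∈ sset Q B w w' o := fun y hy => by
      obtain ⟨hyX, hwy, hw'y⟩ := mem_perp2.mp hy
      refine ⟨mem_X.mpr ⟨hwy, hw'y⟩, hfix _ (sGL_mem_root (hWX hw) hyX (hWQ w hw) hwy) ?_⟩
      refine Submodule.eq_of_le_of_finrank_eq ?_
        (Submodule.equivMapOfInjective _ (act_injective _) W).finrank_eq.symm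
      rintro _ ⟨b, hb, rfl⟩
      rw [Matrix.mulVecLin_apply, sGL_act C (hWQ w hw) hwy, hWB w hw b hb]
      simp only [zero_smul, add_zero]
      exact W.sub_mem hb (W.smul_mem _ hw)
    have hwv : B w v = 0 := by rw [C.symm]; exact X.left (hWX hw)
    have hwv' : B w' v = 0 := by rw [C.symm]; exact X.left hH.memF
    have hwf : B w f = 0 := by rw [C.symm]; exact X.right (hWX hw)
    have hwf' : B w' f = 0 := by rw [C.symm]; exact X.right hH.memF
    have hline : ¬ NonLine (aset τ Q B w w' o) := fun hnl => by
      obtain ⟨a, ha, hav⟩ := hnl v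
      refine hav (Submodule.mem_span_singleton.mpr ⟨B f a, ?_⟩)
      have haX := aset_le τ ha
      have hva : B a v = 0 := perp_of_subset τ C S.tau (U := Submodule.span F {v}) (fun y hy => by
        obtain ⟨c, rfl⟩ := Submodule.mem_span_singleton.mp hy
        exact ⟨mem_X.mpr ⟨by simp [hwv], by simp [hwv']⟩, hvW w hw c⟩) ha
        (Submodule.mem_span_singleton_self v)
      have hdX : a - B f a • v - B v a • f ∈ perp2 B (X B v f) w w' := mem_perp2.mpr
        ⟨h.proj C trivial, by simp [X.left haX, hwv, hwf], by simp [X.right haX, hwv', hwf']⟩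
      have h0 : a - B f a • v - B v a • f = 0 := by
        refine (hH.ndeg C hX) _ hdX fun y hy => ?_
        obtain ⟨hyX, -, -⟩ := mem_perp2.mp hy
        rw [map_sub, map_sub, LinearMap.sub_apply, LinearMap.sub_apply, map_smul, map_smul,
          LinearMap.smul_apply, LinearMap.smul_apply, perp_of_subset τ C S.tau hsub ha hy,
          X.left hyX, X.right hyX]
        simp
      rw [C.symm v a, hva, zero_smul, sub_zero, sub_eq_zero] at h0
      exact h0.symm
    intro a ha
    have hline' : ∀ b ∈ aset τ Q B w w' o, b = 0 := by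
      obtain ⟨g, hg, hgv, hgf⟩ := exists_frame_map C h5 h h'
      have hnl' : NonLine (aset τ Q B w w' (mv Q B g x)) := by
        rw [← aset_transport τ C h h' hg one_ne_zero (by rw [hgv, one_smul])
          (by rw [hgf, inv_one, one_smul]) x]
        exact nonLine_map hx g one_ne_zero
      exact S.others_trivial h' hnl' hline
    have hmem : a - B w' a • w ∈ X B w w' := mem_X.mpr
      ⟨by simp [ha, C.self_zero (hWQ w hw)], by simp [h'.pair' C]⟩
    have h1 := mem_sset_of_ann τ C S.tau h' hmem fun b hb => by
      rw [hline' b hb, map_zero, LinearMap.zero_apply, map_zero]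
    rwa [show a - B w' a • w = a + (-(B w' a)) • w by rw [neg_smul, sub_eq_add_neg],
      sGL_add_self C (hWQ w hw) ha] at h1
  -- in dimension eight also `f`
  have hCf : Fintype.card ι = 8 → Centre Q B (Stab Q B o) f := by
    intro h8
    have hf' : Hyp Q B ⊤ f v := Hyp.swap C h
    have hsubW : ∀ y ∈ W, y ∈ sset Q B f v o := fun y hy => by
      refine ⟨mem_X.mpr ⟨X.right (hWX hy), X.left (hWX hy)⟩, ?_⟩
      rw [sGL_swap C h.singF (hWQ y hy) (X.right (hWX hy))]
      exact hCW y hy _ (by rw [map_neg, C.symm, X.right (hWX hy), neg_zero])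
    have hline : ¬ NonLine (aset τ Q B f v o) := by
      intro hnl
      obtain ⟨hcase', hWA, -⟩ := S.shape hf' hnl
      have hleW : spanA (aset τ Q B f v o) ≤ W := by
        refine Submodule.span_le.mpr fun a ha => ?_
        have haX : a ∈ X B v f := by
          have := aset_le τ ha
          exact mem_X.mpr ⟨X.right this, X.left this⟩
        by_contra haW
        have hperp : ∀ y ∈ W ⊔ Submodule.span F {v},
            ∀ z ∈ (W ⊔ Submodule.span F {v}) ⊔ Submodule.span F {a}, B y z = 0 := by
          intro y hy z hz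
          obtain ⟨y1, hy1, y2, hy2, rfl⟩ := Submodule.mem_sup.mp hy
          obtain ⟨z12, hz12, z3, hz3, rfl⟩ := Submodule.mem_sup.mp hz
          obtain ⟨z1, hz1, z2, hz2, rfl⟩ := Submodule.mem_sup.mp hz12
          obtain ⟨c, rfl⟩ := Submodule.mem_span_singleton.mp hy2
          obtain ⟨c', rfl⟩ := Submodule.mem_span_singleton.mp hz2
          obtain ⟨c'', rfl⟩ := Submodule.mem_span_singleton.mp hz3
          have h1 : B y1 a = 0 := by
            rw [C.symm]; exact perp_of_subset τ C S.tau hsubW ha hy1
          simp [hWB y1 hy1 z1 hz1, X.left (hWX hz1), C.symm y1 v, X.left (hWX hy1),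
            C.self_zero h.singE, h1, X.left haX]
        have h1 := perp_bound C hperp
        have hlt1 : W < W ⊔ Submodule.span F {v} := lt_of_le_of_ne le_sup_left fun he => by
          have hvW : v ∈ W := he ▸ Submodule.mem_sup_right (Submodule.mem_span_singleton_self v)
          have := X.right (hWX hvW)
          rw [h.pair' C] at this
          exact one_ne_zero this
        have hlt2 : W ⊔ Submodule.span F {v} < (W ⊔ Submodule.span F {v}) ⊔ Submodule.span F {a} :=
          lt_of_le_of_ne le_sup_left fun he => by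
            have ham : a ∈ W ⊔ Submodule.span F {v} :=
              he ▸ Submodule.mem_sup_right (Submodule.mem_span_singleton_self a)
            obtain ⟨y, hy, y2, hy2, hye⟩ := Submodule.mem_sup.mp ham
            obtain ⟨c, rfl⟩ := Submodule.mem_span_singleton.mp hy2
            have hc := X.right haX
            rw [← hye, map_add, map_smul, X.right (hWX hy), h.pair' C] at hc
            simp at hc
            subst hc
            rw [zero_smul, add_zero] at hye
            exact haW (hye ▸ hy)
        have h2 := Submodule.finrank_lt_finrank_of_lt hlt1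
        have h3 := Submodule.finrank_lt_finrank_of_lt hlt2
        omega
      have heqW : spanA (aset τ Q B f v o) = W :=
        Submodule.eq_of_le_of_finrank_eq hleW (by omega)
      -- swap the frame by a product of two reflections
      obtain ⟨w, hw, hw0'⟩ := Submodule.exists_mem_ne_zero_of_ne_bot
        (p := W) (fun hb => by rw [hb, finrank_bot] at hd; omega)
      obtain ⟨w', hH⟩ := exists_hyp C hX (hWX hw) hw0' (hWQ w hw)
      have hQa1 : Q (w - w') = -1 := by
        have := Q_sub_smul C hH (1 : F); rwa [one_smul] at this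
      have hQvf : Q (v - f) = -1 := by
        have := Q_sub_smul C h (1 : F); rwa [one_smul] at this
      have hne1 : Q (w - w') ≠ 0 := by rw [hQa1]; exact neg_ne_zero.mpr one_ne_zero
      have ha1X : w - w' ∈ X B v f := Submodule.sub_mem _ (hWX hw) hH.memF
      set g := rGL Q (v - f) * rGL Q (w - w')
      have hg : g ∈ Root Q B ⊤ := rGL_mul_rGL_root C h5
        (by rw [hQvf]; exact neg_ne_zero.mpr one_ne_zero) (by rw [hQvf, hQa1])
      have hgv : g.val *ᵥ v = f := by
        rw [mul_act, rGL_fix C hne1 (by rw [C.symm]; exact X.left ha1X)]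
        have := (rGL_hyp C h (one_ne_zero (α := F))).1
        simpa using this
      have hgf : g.val *ᵥ f = v := by
        rw [mul_act, rGL_fix C hne1 (by rw [C.symm]; exact X.right ha1X)]
        have := (rGL_hyp C h (one_ne_zero (α := F))).2
        simpa using this
      have hgX : ∀ y ∈ X B v f, g.val *ᵥ y = (rGL Q (w - w')).val *ᵥ y := fun y hy => by
        have hyX : (rGL Q (w - w')).val *ᵥ y ∈ X B v f := by
          rw [rGL_act C hne1]
          exact Submodule.sub_mem _ hy (Submodule.smul_mem _ _ ha1X)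
        have := rGL_hyp_fix C h hyX (one_ne_zero (α := F))
        rw [one_smul] at this
        rw [mul_act, this]
      set A' := aset τ Q B v f (mv Q B g o) with hA'
      have hA'eq : A' = (aset τ Q B f v o).map (tr g 1) := by
        rw [hA', aset_transport τ C hf' h hg one_ne_zero (by rw [hgf, one_smul])
          (by rw [hgv, inv_one, one_smul]) o]
      have hspan' : spanA A' = W.map (Matrix.mulVecLin g.val) := by
        rw [hA'eq, spanA_map, heqW]
      set U := W ⊓ LinearMap.ker (B (w - w'))
      have hUd := finrank_inf_ker_ge C W (w - w')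
      obtain ⟨a, haU, ha0⟩ := Submodule.exists_mem_ne_zero_of_ne_bot
        (p := U) (fun hb => by
          change finrank F W ≤ finrank F U + 1 at hUd
          rw [hb, finrank_bot] at hUd; omega)
      have hUfix : ∀ y ∈ U, g.val *ᵥ y = y := fun y hy => by
        rw [hgX y (hWX hy.1), rGL_fix C hne1 (LinearMap.mem_ker.mp hy.2)]
      obtain ⟨w₁, hw₁, hw₁a⟩ := hx a
      obtain ⟨b, hb, hQb, hba, hbw⟩ :=
        exists_partner S.toBase h hWX hWQ hWB haU.1 ((hW w₁).mpr hw₁) hw₁a
      obtain ⟨R, hcard, hinj, hR⟩ := exists_movers S.toBase h hWX hWB hWQ haU.1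
        ((hW w₁).mpr hw₁) hb hQb hba hbw
      have hne : ∀ k ∈ R, W.map (Matrix.mulVecLin k.val) ≠ spanA A' := by
        intro k hk he
        have hgw : g.val *ᵥ w = w' := by
          rw [hgX w (hWX hw), rGL_act C hne1, hQa1, map_sub, LinearMap.sub_apply,
            C.self_zero (hWQ w hw), hH.pair' C]
          simp
        have hw'W : w' ∉ W := fun hm => by
          have := hWB w hw w' hm
          rw [hH.pair] at this
          exact one_ne_zero this
        rcases (hR k hk).2.2 with hkW | ⟨c, hcX, hbc, hcn, hmeet⟩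
        · refine hw'W (hkW ▸ he.symm ▸ hspan'.symm ▸ ⟨w, hw, ?_⟩)
          rw [Matrix.mulVecLin_apply, hgw]
        · have hUle : U ≤ W ⊓ LinearMap.ker (B b) := fun y hy => by
            refine Submodule.mem_inf.mpr ⟨hy.1, LinearMap.mem_ker.mpr (hmeet y hy.1 ?_).1⟩
            rw [he, hspan']
            exact ⟨y, hy.1, by rw [Matrix.mulVecLin_apply, hUfix y hy]⟩
          have hlt : W ⊓ LinearMap.ker (B b) < W := lt_of_le_of_ne inf_le_left fun he' => by
            have hm : w₁ ∈ W ⊓ LinearMap.ker (B b) := by rw [he']; exact (hW w₁).mpr hw₁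
            rw [Submodule.mem_inf, LinearMap.mem_ker, hbw] at hm
            exact one_ne_zero hm.2
          have h2 := Submodule.finrank_lt_finrank_of_lt hlt
          have hUeq : U = W ⊓ LinearMap.ker (B b) := by
            refine Submodule.eq_of_le_of_finrank_le hUle ?_
            change finrank F W ≤ finrank F U + 1 at hUd
            omega
          set Z1 := (W ⊓ LinearMap.ker (B b)) ⊔ Submodule.span F {b} ⊔ Submodule.span F {v}
          have hperp : ∀ y ∈ Z1, ∀ z ∈ Z1 ⊔ Submodule.span F {c}, B y z = 0 := by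
            have hcy : ∀ y ∈ W ⊓ LinearMap.ker (B b), B y c = 0 := fun y hy => by
              rw [← hUeq] at hy
              rw [C.symm]
              refine (hmeet y hy.1 ?_).2
              rw [he, hspan']
              exact ⟨y, hy.1, by rw [Matrix.mulVecLin_apply, hUfix y hy]⟩
            intro y hy z hz
            obtain ⟨y12, hy12, y3, hy3, rfl⟩ := Submodule.mem_sup.mp hy
            obtain ⟨y1, hy1, y2, hy2, rfl⟩ := Submodule.mem_sup.mp hy12
            obtain ⟨z123, hz123, z4, hz4, rfl⟩ := Submodule.mem_sup.mp hz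
            obtain ⟨z12, hz12, z3, hz3, rfl⟩ := Submodule.mem_sup.mp hz123
            obtain ⟨z1, hz1, z2, hz2, rfl⟩ := Submodule.mem_sup.mp hz12
            obtain ⟨a2, rfl⟩ := Submodule.mem_span_singleton.mp hy2
            obtain ⟨a3, rfl⟩ := Submodule.mem_span_singleton.mp hy3
            obtain ⟨b2, rfl⟩ := Submodule.mem_span_singleton.mp hz2
            obtain ⟨b3, rfl⟩ := Submodule.mem_span_singleton.mp hz3
            obtain ⟨b4, rfl⟩ := Submodule.mem_span_singleton.mp hz4
            have e1 : B b z1 = 0 := LinearMap.mem_ker.mp hz1.2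
            have e2 : B b y1 = 0 := LinearMap.mem_ker.mp hy1.2
            simp [hWB y1 hy1.1 z1 hz1.1, hcy y1 hy1, e1, C.symm y1 b, e2, C.self_zero hQb,
              C.symm y1 v, X.left (hWX hy1.1), X.left (hWX hz1.1), C.symm b v, X.left hb,
              C.self_zero h.singE, hbc, X.left hcX]
          have h3 := perp_bound C hperp
          have hlt1 : W ⊓ LinearMap.ker (B b) < (W ⊓ LinearMap.ker (B b)) ⊔ Submodule.span F {b} :=
            lt_of_le_of_ne le_sup_left fun he' => by
              have hm : b ∈ W ⊓ LinearMap.ker (B b) :=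
                he' ▸ Submodule.mem_sup_right (Submodule.mem_span_singleton_self b)
              have := hWB b hm.1 w₁ ((hW w₁).mpr hw₁)
              rw [hbw] at this
              exact one_ne_zero this
          have hlt2 : (W ⊓ LinearMap.ker (B b)) ⊔ Submodule.span F {b} < Z1 :=
            lt_of_le_of_ne le_sup_left fun he' => by
              have hm : v ∈ (W ⊓ LinearMap.ker (B b)) ⊔ Submodule.span F {b} :=
                he' ▸ Submodule.mem_sup_right (Submodule.mem_span_singleton_self v)
              have hle : (W ⊓ LinearMap.ker (B b)) ⊔ Submodule.span F {b} ≤ X B v f :=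
                sup_le (inf_le_left.trans hWX) ((Submodule.span_singleton_le_iff_mem _ _).mpr hb)
              have := X.right (hle hm)
              rw [h.pair' C] at this
              exact one_ne_zero this
          have hlt3 : Z1 < Z1 ⊔ Submodule.span F {c} := lt_of_le_of_ne le_sup_left fun he' => by
            have hm : c ∈ Z1 := he' ▸ Submodule.mem_sup_right (Submodule.mem_span_singleton_self c)
            obtain ⟨y12, hy12, y3, hy3, hye⟩ := Submodule.mem_sup.mp hm
            obtain ⟨a3, rfl⟩ := Submodule.mem_span_singleton.mp hy3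
            have hle : (W ⊓ LinearMap.ker (B b)) ⊔ Submodule.span F {b} ≤ X B v f :=
              sup_le (inf_le_left.trans hWX) ((Submodule.span_singleton_le_iff_mem _ _).mpr hb)
            have hc := X.right hcX
            rw [← hye, map_add, map_smul, X.right (hle hy12), h.pair' C] at hc
            simp at hc
            subst hc
            rw [zero_smul, add_zero] at hye
            have hWb : (W ⊓ LinearMap.ker (B b)) ⊔ Submodule.span F {b} ≤ W ⊔ Submodule.span F {b} :=
              sup_le_sup_right inf_le_left _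
            exact hcn (hye ▸ hWb hy12)
          have h4 := Submodule.finrank_lt_finrank_of_lt hlt1
          have h5' := Submodule.finrank_lt_finrank_of_lt hlt2
          have h6 := Submodule.finrank_lt_finrank_of_lt hlt3
          have h7' := congrArg (fun V : Submodule F (ι → F) => finrank F V) hUeq
          change finrank F U = _ at h7'
          change finrank F W ≤ finrank F U + 1 at hUd
          omega
      set 𝒜 := (asets (α := α) τ Q B v f).filter fun A => a ∈ A ∧ NonLine A
      have hA'mem : A' ∈ 𝒜 := Finset.mem_filter.mpr ⟨mem_asets.mpr ⟨_, rfl⟩,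
        hA'eq ▸ ⟨a, (hWA a).mp (heqW.symm ▸ haU.1), by
          rw [tr_apply, inv_one, one_smul, hUfix a haU]⟩,
        hA'eq ▸ nonLine_map hnl g one_ne_zero⟩
      have hnotin : A' ∉ R.image fun k => (aset τ Q B v f x).map (tr k 1) := fun hm => by
        obtain ⟨k, hk, he⟩ := Finset.mem_image.mp hm
        exact hne k hk (by rw [← he, spanA_map])
      have hsub : insert A' (R.image fun k => (aset τ Q B v f x).map (tr k 1)) ⊆ 𝒜 := by
        refine Finset.insert_subset hA'mem fun A hA => ?_
        obtain ⟨k, hk, rfl⟩ := Finset.mem_image.mp hA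
        obtain ⟨hkX, hka, -⟩ := hR k hk
        obtain ⟨hkv, hkf⟩ := root_fix C h hkX
        have hkK : k ∈ Root Q B ⊤ := root_mono le_top hkX
        exact Finset.mem_filter.mpr ⟨mem_asets.mpr ⟨_, (aset_fix τ C h hkK hkv hkf x).symm⟩,
          ⟨a, (hW a).mp haU.1, by rw [tr_apply, inv_one, one_smul, hka]⟩,
          nonLine_map hx k one_ne_zero⟩
      have hinj' : Set.InjOn (fun k : GL ι F => (aset τ Q B v f x).map (tr k 1)) R :=
        fun k hk k' hk' he => hinj hk hk' (by
          simp only [hWdef, ← spanA_map]; exact congrArg spanA he)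
      have h1 := Finset.card_le_card hsub
      rw [Finset.card_insert_of_notMem hnotin, Finset.card_image_of_injOn hinj'] at h1
      have h2 := members_lt S.toSetup h ((hW a).mp haU.1) ha0 (hWQ a haU.1)
        (P := NonLine) (invariant_nonLine v f)
      have hd3 : finrank F W = 3 := by omega
      rw [hd3, h8, show 8 - 4 = 3 + 1 from rfl, pow_succ] at hcard
      have h3 : Nat.card F + 1 ≤ R.card := Nat.le_of_mul_le_mul_left
        (by rw [mul_add, mul_one]; exact hcard) (pow_pos Nat.card_pos 3)
      have h2' : 𝒜.card < Nat.card F + 2 := lt_of_eq_of_lt (by congr) h2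
      change _ ≤ 𝒜.card at h1
      omega
    intro a ha
    have hmem : a - B v a • f ∈ X B f v := mem_X.mpr
      ⟨by simp [ha, C.self_zero h.singF], by simp [h.pair]⟩
    have hnl' : ∃ y : α, NonLine (aset τ Q B f v y) := by
      obtain ⟨g, hg, hgv, hgf⟩ := exists_frame_map C h5 h hf'
      exact ⟨mv Q B g x, by
        rw [← aset_transport τ C h hf' hg one_ne_zero (by rw [hgv, one_smul])
          (by rw [hgf, inv_one, one_smul]) x]
        exact nonLine_map hx g one_ne_zero⟩
    obtain ⟨y, hy⟩ := hnl'
    have h1 := mem_sset_of_ann τ C S.tau hf' hmem fun b hb => by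
      rw [S.others_trivial hf' hy hline b hb, map_zero, LinearMap.zero_apply, map_zero]
    rwa [show a - B v a • f = a + (-(B v a)) • f by rw [neg_smul, sub_eq_add_neg],
      sGL_add_self C h.singF ha] at h1
  -- count the centres at `o`
  set G := {w : ι → F | (w ≠ 0 ∧ Q w = 0) ∧ Centre Q B (Stab Q B o) w}
  have hgood : Nat.card F ^ (2 * (Fintype.card ι - 6)) ≤ G.ncard + 1 := by
    have hins : ∀ T : Set (ι → F), (∀ y ∈ T, y ≠ 0 → y ∈ G) → T.ncard ≤ G.ncard + 1 := fun T hT =>
      calc T.ncard ≤ (insert 0 G).ncard := Set.ncard_le_ncard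
            (fun y hy => by
              by_cases hy0 : y = 0
              · exact Or.inl hy0
              · exact Or.inr (hT y hy hy0)) (Set.toFinite _)
        _ ≤ _ := Set.ncard_insert_le _ _
    rcases hn with hn7 | hn8
    · rw [hn7, show 2 * (7 - 6) = finrank F W by omega, ← card_submodule,
        ← SetLike.coe_sort_coe, Nat.card_coe_set_eq]
      exact hins _ fun y hy hy0 => ⟨⟨hy0, hWQ y hy⟩, hCW y hy⟩
    · have hHI : Stab Q B o ≤ isometryGroup F Q := (Stab_le o).trans (root_le_iso C _)
      rw [hn8, show 2 * (8 - 6) = finrank F W + 1 by omega, pow_succ, ← card_submodule,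
        ← Nat.card_prod]
      let Φ : ↥W × F → ι → F := fun y => y.2 • f + y.1.1
      have hΦ : Function.Injective Φ := by
        rintro ⟨⟨y, hy⟩, c⟩ ⟨⟨y', hy'⟩, c'⟩ he
        simp only [Φ] at he
        have hc := congrArg (B v) he
        rw [map_add, map_add, map_smul, map_smul, X.left (hWX hy), X.left (hWX hy'), h.pair] at hc
        simp at hc
        subst hc
        rw [add_right_inj] at he
        subst he
        rfl
      rw [← Set.ncard_range_of_injective hΦ]
      refine hins _ ?_
      rintro _ ⟨⟨⟨y, hy⟩, c⟩, rfl⟩ hy0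
      simp only [Φ] at hy0 ⊢
      by_cases hc : c = 0
      · simp only [hc, zero_smul, zero_add] at hy0 ⊢
        exact ⟨⟨hy0, hWQ y hy⟩, hCW y hy⟩
      set w := (-c⁻¹) • y
      have hw : w ∈ W := W.smul_mem _ hy
      have hwv : B w v = 0 := by rw [C.symm]; exact X.left (hWX hw)
      have hg : sGL Q B w v ∈ Stab Q B o := hCW w hw v hwv
      have himg : (sGL Q B w v).val *ᵥ f = f - w := by
        rw [sGL_act C (hWQ w hw) hwv, C.symm w f, X.right (hWX hw), h.pair, h.singE]
        simp
      have hQfw : Q (f - w) = 0 := by rw [← himg, mem_iso.mp (hHI hg), h.singF]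
      have hcent := centre_smul C hQfw (himg ▸ centre_act C hHI h.singF hg (hCf hn8)) hc
      have heq : c • f + y = c • (f - w) := by
        rw [smul_sub, smul_smul, mul_neg, mul_inv_cancel₀ hc, neg_one_smul, sub_neg_eq_add]
      rw [heq] at hy0 ⊢
      exact ⟨⟨hy0, by rw [C.smul, hQfw, mul_zero]⟩, hcent⟩
  have hdc := S.double_count (o := o) (Hyp.ne_zero C h).1 h.singE
  change _ = Nat.card α * G.ncard at hdc
  set F0 := (Finset.univ.filter fun y : α => Centre Q B (Stab Q B y) v).card
  have hF0 : Nat.card F ^ (Fintype.card ι - 5) * ((Nat.card F + 1) * (Nat.card F ^ 2 + 1)) + F0 ≤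
      Nat.card α := by
    refine le_trans (Nat.add_le_add_right (S.sum_lower h (P := NonLine) (invariant_nonLine v f)
      (fun A hA => hA) hx) _) ?_
    have hsum := sum_card_le S.toBase h (T := asets (α := α) τ Q B v f) subset_rfl
    have hdisj : Disjoint (Finset.univ.filter fun y : α => NonLine (aset τ Q B v f y))
        (Finset.univ.filter fun y : α => Centre Q B (Stab Q B y) v) := by
      rw [Finset.disjoint_filter]
      intro y _ hy hc
      obtain ⟨a, ha, ha0⟩ := hy 0
      refine ha0 ?_
      have : a = 0 := hX a (aset_le τ ha) fun z hz => perp_of_subset τ C S.tau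
        (fun w hw => ⟨hw, hc w (X.left hw)⟩) ha hz
      rw [this]
      exact Submodule.zero_mem _
    refine le_trans ?_ (le_of_le_of_eq
      (Finset.card_le_univ ((Finset.univ.filter fun y : α => NonLine (aset τ Q B v f y)) ∪
        Finset.univ.filter fun y : α => Centre Q B (Stab Q B y) v))
      (Nat.card_eq_fintype_card).symm)
    rw [Finset.card_union_of_disjoint hdisj]
    refine Nat.add_le_add_right ?_ _
    rw [Finset.card_eq_sum_card_fiberwise (f := fun y : α => aset τ Q B v f y)
      (t := (asets (α := α) τ Q B v f).filter NonLine) (fun y hy => by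
        simp only [Finset.coe_filter, Finset.mem_univ, true_and, Set.mem_setOf_eq] at hy ⊢
        exact ⟨mem_asets.mpr ⟨y, rfl⟩, hy⟩)]
    refine Finset.sum_le_sum fun A hA => ?_
    obtain ⟨hA, hnl⟩ := Finset.mem_filter.mp hA
    obtain ⟨y, rfl⟩ := mem_asets.mp hA
    refine (card_le_fibre τ C S.tau h y).trans (Finset.card_le_card fun z hz => ?_)
    simp only [Finset.mem_filter, Finset.mem_univ, true_and] at hz ⊢
    exact ⟨hz ▸ hnl, hz⟩
  have hgap := S.gap h hn
  have hfew := S.few
  set Z := singNum Q
  set N := Nat.card α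
  set Fm := Nat.card F ^ (Fintype.card ι - 5) * ((Nat.card F + 1) * (Nat.card F ^ 2 + 1))
  have hZ : Z ≤ (Nat.card F - 1) * Fm + G.ncard := by omega
  have hkey : Z * Fm ≤ (Nat.card F - 1) * N * Fm := by
    calc Z * Fm ≤ Z * (N - F0) := Nat.mul_le_mul_left _ (by omega)
      _ = Z * N - N * G.ncard := by rw [Nat.mul_sub, hdc]
      _ ≤ ((Nat.card F - 1) * Fm + G.ncard) * N - N * G.ncard :=
        Nat.sub_le_sub_right (Nat.mul_le_mul_right N hZ) _
      _ = (Nat.card F - 1) * N * Fm := by
        rw [add_mul, mul_comm G.ncard N, Nat.add_sub_cancel]; ring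
  have hpos : 0 < Fm := by
    have := Nat.card_pos (α := F)
    positivity
  have := Nat.le_of_mul_le_mul_right hkey hpos
  omega

end

end Cfsg.Lib.Linear.MinIndexOrth
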