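import Cfsg.Agent.Lib.Linear.MinIndexOrth.Sets
import Cfsg.Agent.Lib.Linear.OrthRule

/-!
# If all annihilators lie in lines, the point is fixed by `Ω`
-/

set_option autoImplicit false

namespace Cfsg.Lib.Linear.MinIndexOrth

open Module Cfsg.Lib.Linear.Orth
open scoped Matrix

noncomputable section

variable {ι : Type} [Fintype ι] [DecidableEq ι] {F : Type*} [Field F] [Finite F]
  {Q : (ι → F) → F} {B : LinearMap.BilinForm F (ι → F)}

/-- The singular vectors of the perpendicular space of `v, d, u` span it. -/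
theorem span_sing_three (C : Space Q B) (h7 : 7 ≤ Fintype.card ι) {v d u : ι → F}
    (hv : Q v = 0) (hv0 : v ≠ 0) (hd : Q d = 0) (hvd : B v d = 0) (hvu : B v u = 0)
    (hud : B u d ≠ 0) :
    Fintype.card ι ≤
        finrank F ↥(LinearMap.ker (B v) ⊓ LinearMap.ker (B d) ⊓ LinearMap.ker (B u)) + 3 ∧
      LinearMap.ker (B v) ⊓ LinearMap.ker (B d) ⊓ LinearMap.ker (B u) ≤ Submodule.span F
        {w | w ∈ LinearMap.ker (B v) ⊓ LinearMap.ker (B d) ⊓ LinearMap.ker (B u) ∧ Q w = 0} := by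
  set Z := LinearMap.ker (B v) ⊓ LinearMap.ker (B d) ⊓ LinearMap.ker (B u) with hZ
  have h1 := finrank_inf_ker_ge C (⊤ : Submodule F (ι → F)) v
  have h2 := finrank_inf_ker_ge C (LinearMap.ker (B v)) d
  have h3 := finrank_inf_ker_ge C (LinearMap.ker (B v) ⊓ LinearMap.ker (B d)) u
  rw [finrank_top, finrank_fintype_fun_eq_card, top_inf_eq] at h1
  rw [← hZ] at h3
  refine ⟨by omega, ?_⟩
  obtain ⟨v', hv'⟩ := C.exists_pair hv0
  have h4 := finrank_inf_ker_ge C Z v'
  obtain ⟨e, he, he0, hQe⟩ :=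
    Sing.exists_singular C.smul C.polar (Z ⊓ LinearMap.ker (B v')) (by omega)
  obtain ⟨heZ, hev'⟩ := Submodule.mem_inf.mp he
  obtain ⟨⟨hev, hed⟩, heu⟩ : (B v e = 0 ∧ B d e = 0) ∧ B u e = 0 := by simpa [hZ] using heZ
  have hnot : e ∉ Submodule.span F {v, d, u} := by
    intro hmem
    obtain ⟨a, b, c, rfl⟩ := Submodule.mem_span_triple.mp hmem
    rw [LinearMap.mem_ker] at hev'
    simp [C.self_zero hd, C.symm d v, hvd, C.symm d u, hud] at hed
    subst hed
    simp [C.symm u v, hvu, hud] at heu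
    subst heu
    simp [C.symm v' v, hv'] at hev'
    subst hev'
    exact he0 (by simp)
  obtain ⟨y, hy, hey⟩ := C.exists_perp hnot
  have hyZ : y ∈ Z := by
    simp only [hZ, Submodule.mem_inf, LinearMap.mem_ker]
    exact ⟨⟨hy v (Submodule.subset_span (by simp)), hy d (Submodule.subset_span (by simp))⟩,
      hy u (Submodule.subset_span (by simp))⟩
  obtain ⟨f', hf'⟩ := exists_hyp_of_pair C heZ hQe ⟨y, hyZ, by rw [hey]; exact one_ne_zero⟩
  exact span_sing_hyp C hf'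

variable {p : ℕ} [Fact p.Prime] {τ : F →+ ZMod p} {α : Type*} [MulAction ↥(Root Q B ⊤) α]
  (S : Base Q B τ)

include S

/-- If every annihilator lies in a line, every point is fixed. -/
theorem root_le_stab
    (hl : ∀ v f, Hyp Q B ⊤ v f → ∀ x : α,
      ∃ u ∈ X B v f, ∀ a ∈ aset τ Q B v f x, a ∈ Submodule.span F {u})
    (x : α) : Root Q B ⊤ ≤ Stab Q B x := by
  have C := S.space
  have h7 := S.n7
  have hHI : Stab Q B x ≤ isometryGroup F Q := (Stab_le x).trans (root_le_iso C _)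
  have hkey : ∀ v, Q v = 0 → v ≠ 0 → ∃ u, B v u = 0 ∧
      ∀ w, B v w = 0 → B u w = 0 → sGL Q B v w ∈ Stab Q B x := by
    intro v hv hv0
    obtain ⟨f, h⟩ := exists_hyp C C.ndeg_top trivial hv0 hv
    obtain ⟨u, hu, hA⟩ := hl v f h x
    refine ⟨u, X.left hu, fun w hw huw => ?_⟩
    have hmem : w - B f w • v ∈ X B v f := mem_X.mpr
      ⟨by simp [hw, C.self_zero hv], by simp [h.pair' C]⟩
    have h1 := mem_sset_of_ann τ C S.tau h hmem fun a ha => by
      obtain ⟨c, rfl⟩ := Submodule.mem_span_singleton.mp (hA a ha)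
      simp [huw, C.symm u v, X.left hu]
    rwa [show w - B f w • v = w + (-(B f w)) • v by rw [neg_smul, sub_eq_add_neg],
      sGL_add_self C hv hw] at h1
  refine root_le_of_pairs C (by omega) _ fun v d hv hd hvd => ?_
  by_cases hv0 : v = 0
  · rw [hv0, sGL_trivial C]; exact one_mem _
  by_cases hd0 : d = 0
  · rw [hd0, sGL_zero_right C hv]; exact one_mem _
  obtain ⟨u, hvu, hu⟩ := hkey v hv hv0
  obtain ⟨u', hdu', hu'⟩ := hkey d hd hd0
  suffices hR : RPair Q B (Stab Q B x) v d by simpa using hR.2.2.2 1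
  have hdv : B d v = 0 := by rw [C.symm, hvd]
  by_cases hud : B u d = 0
  · exact ⟨hv, hd, hvd, fun c => hu _ (by rw [map_smul, hvd, smul_zero])
      (by rw [map_smul, hud, smul_zero])⟩
  by_cases hu'v : B u' v = 0
  · exact RPair.symm C ⟨hd, hv, hdv, fun c => hu' _ (by rw [map_smul, hdv, smul_zero])
      (by rw [map_smul, hu'v, smul_zero])⟩
  obtain ⟨hd1, hs1⟩ := span_sing_three C h7 hv hv0 hd hvd hvu hud
  obtain ⟨hd2, hs2⟩ := span_sing_three C h7 hd hd0 hv hdv hdu' hu'v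
  obtain ⟨b, ⟨hb, hQb⟩, c, ⟨hc, hQc⟩, hbc⟩ :
      ∃ b, (b ∈ LinearMap.ker (B v) ⊓ LinearMap.ker (B d) ⊓ LinearMap.ker (B u) ∧ Q b = 0) ∧
        ∃ c, (c ∈ LinearMap.ker (B d) ⊓ LinearMap.ker (B v) ⊓ LinearMap.ker (B u') ∧ Q c = 0) ∧
          B b c ≠ 0 := by
    by_contra hne
    push Not at hne
    have h0 : ∀ y ∈ LinearMap.ker (B v) ⊓ LinearMap.ker (B d) ⊓ LinearMap.ker (B u),
        ∀ z ∈ LinearMap.ker (B d) ⊓ LinearMap.ker (B v) ⊓ LinearMap.ker (B u'), B y z = 0 :=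
      fun y hy z hz => (Submodule.span_le (p := LinearMap.ker (B.flip z))).mpr
        (fun s hs => LinearMap.mem_ker.mpr ((Submodule.span_le (p := LinearMap.ker (B s))).mpr
          (fun t ht => LinearMap.mem_ker.mpr (hne s hs t ht)) (hs2 hz))) (hs1 hy)
    have := perp_bound C h0
    omega
  obtain ⟨⟨hvb, hdb⟩, hub⟩ : (B v b = 0 ∧ B d b = 0) ∧ B u b = 0 := by simpa using hb
  obtain ⟨⟨hdc, hvc⟩, hu'c⟩ : (B d c = 0 ∧ B v c = 0) ∧ B u' c = 0 := by simpa using hc
  set b' := (B b c)⁻¹ • b with hb'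
  have hQb' : Q b' = 0 := by rw [hb', C.smul, hQb, mul_zero]
  have hvb' : B v b' = 0 := by rw [hb', map_smul, hvb, smul_zero]
  have h1 : RPair Q B (Stab Q B x) b' v :=
    RPair.symm C ⟨hv, hQb', hvb', fun t => hu _ (by rw [map_smul, hvb', smul_zero])
      (by rw [hb', smul_smul, map_smul, hub, smul_zero])⟩
  have h2 : RPair Q B (Stab Q B x) c d :=
    RPair.symm C ⟨hd, hQc, hdc, fun t => hu' _ (by rw [map_smul, hdc, smul_zero])
      (by rw [map_smul, hu'c, smul_zero])⟩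
  exact RPair.rule C hHI h1 h2 hvc hvd
    (by rw [hb', map_smul, LinearMap.smul_apply, C.symm b d, hdb, smul_zero])
    (by rw [hb', map_smul, LinearMap.smul_apply, smul_eq_mul, inv_mul_cancel₀ hbc])

end

end Cfsg.Lib.Linear.MinIndexOrth
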