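import Cfsg.Agent.Lib.Linear.MinIndexOrth.Exceptional
import Cfsg.Agent.Lib.Linear.MinIndexOrth.Lines
import Cfsg.Agent.Lib.Linear.OrthCenter

/-!
# The minimal index of a proper subgroup of `PΩ`

For dimension at least seven and at least four field elements it is the number of singular lines.
-/

set_option autoImplicit false

namespace Cfsg.Lib.Linear.MinIndexOrth

open Module Cfsg.Lib.Linear.Orth
open scoped Matrix

noncomputable section

variable {ι : Type} [Fintype ι] [DecidableEq ι] {F : Type*} [Field F] [Finite F]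
  {Q : (ι → F) → F} {B : LinearMap.BilinForm F (ι → F)}

omit [Fintype ι] [DecidableEq ι] in
theorem exists_tau [Finite F] : ∃ p : ℕ, p.Prime ∧ ∃ τ : F →+ ZMod p, τ ≠ 0 := by
  obtain ⟨p, hp⟩ := CharP.exists F
  have hprime : p.Prime := (CharP.char_is_prime_or_zero F p).resolve_right fun h0 => by
    subst h0
    have := CharP.charP_to_charZero F
    exact not_finite F
  have := Fact.mk hprime
  letI := ZMod.algebra F p
  obtain ⟨φ, hφ, -⟩ := Submodule.exists_dual_map_eq_bot_of_notMem (p := (⊥ : Submodule (ZMod p) F))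
    (x := (1 : F)) (by simp) inferInstance
  exact ⟨p, hprime, φ.toAddMonoidHom, fun h => hφ (DFunLike.congr_fun h 1)⟩

/-- A non-trivial transitive action of `Ω` has at least as many points as singular lines. -/
theorem singNum_le {α : Type*} [MulAction ↥(Root Q B ⊤) α] [Finite α] [Nontrivial α]
    [MulAction.IsPretransitive ↥(Root Q B ⊤) α] (C : Space Q B) (h7 : 7 ≤ Fintype.card ι)
    (hq : 4 ≤ Nat.card F)
    (hbound : singNum Q ≤ Nat.card F ^ (Fintype.card ι - 1) + Nat.card F ^ (Fintype.card ι - 4))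
    (hseven : Fintype.card ι = 7 → singNum Q + 1 ≤ Nat.card F ^ 6)
    (height : Fintype.card ι = 8 →
      singNum Q + Nat.card F ^ 3 + 1 ≤ Nat.card F ^ 7 + Nat.card F ^ 4) :
    singNum Q ≤ (Nat.card F - 1) * Nat.card α := by
  classical
  have := Fintype.ofFinite α
  by_contra hlt
  push Not at hlt
  obtain ⟨p, hp, τ, hτ⟩ := exists_tau (F := F)
  have := Fact.mk hp
  have S : Bad Q B τ α :=
    { space := C, n7 := h7, tau := hτ, q4 := hq, small := lt_of_lt_of_le hlt hbound
      few := hlt, seven := hseven, eight := height }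
  have hl : ∀ v f, Hyp Q B ⊤ v f → ∀ x : α,
      ∃ u ∈ X B v f, ∀ a ∈ aset τ Q B v f x, a ∈ Submodule.span F {u} := by
    intro v f h x
    have hn : ¬ NonLine (aset τ Q B v f x) := fun hx => S.nonline_contra h hx
    unfold NonLine at hn
    push Not at hn
    obtain ⟨u, hu⟩ := hn
    by_cases hA : ∃ a ∈ aset τ Q B v f x, a ≠ 0
    · obtain ⟨a, ha, ha0⟩ := hA
      refine ⟨a, aset_le τ ha, fun b hb => ?_⟩
      obtain ⟨c, rfl⟩ := Submodule.mem_span_singleton.mp (hu a ha)
      obtain ⟨c', rfl⟩ := Submodule.mem_span_singleton.mp (hu b hb)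
      have hc : c ≠ 0 := fun h0 => ha0 (by rw [h0, zero_smul])
      exact Submodule.mem_span_singleton.mpr
        ⟨c' * c⁻¹, by rw [smul_smul, mul_assoc, inv_mul_cancel₀ hc, mul_one]⟩
    · push Not at hA
      exact ⟨0, Submodule.zero_mem _, fun b hb => by rw [hA b hb]; exact Submodule.zero_mem _⟩
  obtain ⟨x, y, hxy⟩ := exists_pair_ne α
  obtain ⟨⟨g, hg⟩, hgy⟩ := MulAction.exists_smul_eq ↥(Root Q B ⊤) x y
  refine hxy ?_
  rw [← hgy, ← mv_eq hg, mv_of_mem (root_le_stab S.toBase hl x hg)]

/-- The embedding of `Ω` as matrices. -/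
def omegaHom (Q : (ι → F) → F) : ↥(Cfsg.Omega F Q) →* GL ι F :=
  (isometryGroup F Q).subtype.comp (Cfsg.Omega F Q).subtype

omit [Finite F] in
theorem omegaHom_injective : Function.Injective (omegaHom Q) :=
  fun _ _ e => Subtype.ext (Subtype.ext e)

theorem omegaHom_range (C : Space Q B) (h5 : 5 ≤ Fintype.card ι) :
    (omegaHom Q).range = Root Q B ⊤ := by
  rw [← omegaGL_eq C h5]
  show MonoidHom.range _ = (Cfsg.Omega F Q).map _
  rw [omegaHom, MonoidHom.range_comp, Subgroup.range_subtype]

/-- A bound for the actions of `Ω` is a bound for the proper subgroups of `PΩ`. -/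
theorem index_transfer (C : Space Q B) (h5 : 5 ≤ Fintype.card ι) {T k : ℕ}
    (hyp : ∀ M : Subgroup ↥(Root Q B ⊤), Nontrivial (↥(Root Q B ⊤) ⧸ M) → T ≤ k * M.index)
    (H : Subgroup (Cfsg.POmega F Q)) (hH : H ≠ ⊤) : T ≤ H.index * k := by
  set L := H.comap (QuotientGroup.mk' _)
  have hidx : L.index = H.index :=
    Subgroup.index_comap_of_surjective H (QuotientGroup.mk'_surjective _)
  let e : ↥(Cfsg.Omega F Q) ≃* ↥(Root Q B ⊤) :=
    (MonoidHom.ofInjective omegaHom_injective).trans
      (MulEquiv.subgroupCongr (omegaHom_range C h5))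
  set M := L.map e.toMonoidHom
  have hMi : M.index = H.index := by rw [← hidx]; exact Subgroup.index_map_equiv L e
  have hne : M.index ≠ 1 := by rw [hMi]; exact fun h1 => hH (Subgroup.index_eq_one.mp h1)
  have hM : Nontrivial (↥(Root Q B ⊤) ⧸ M) := by
    rw [← Finite.one_lt_card_iff_nontrivial]
    have h0 : M.index ≠ 0 := Subgroup.index_ne_zero_of_finite
    show 1 < M.index
    omega
  rw [mul_comm, ← hMi]
  exact hyp M hM

/-- Proper subgroups of `PΩ` have at least as many cosets as there are singular lines. -/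
theorem index_lower (C : Space Q B) (h7 : 7 ≤ Fintype.card ι) (hq : 4 ≤ Nat.card F)
    (hbound : singNum Q ≤ Nat.card F ^ (Fintype.card ι - 1) + Nat.card F ^ (Fintype.card ι - 4))
    (hseven : Fintype.card ι = 7 → singNum Q + 1 ≤ Nat.card F ^ 6)
    (height : Fintype.card ι = 8 →
      singNum Q + Nat.card F ^ 3 + 1 ≤ Nat.card F ^ 7 + Nat.card F ^ 4)
    (H : Subgroup (Cfsg.POmega F Q)) (hH : H ≠ ⊤) :
    singNum Q ≤ H.index * (Nat.card F - 1) :=
  index_transfer C (by omega) (fun M _ =>
    singNum_le (α := ↥(Root Q B ⊤) ⧸ M) C h7 hq hbound hseven height) H hH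

/-- The stabiliser of a singular line attains the bound. -/
theorem exists_index_eq (C : Space Q B) (h7 : 7 ≤ Fintype.card ι) :
    ∃ H : Subgroup (Cfsg.POmega F Q), H.index * (Nat.card F - 1) = singNum Q := by
  classical
  obtain ⟨e, e', hH⟩ := exists_hyp' C C.ndeg_top (by
    rw [finrank_top, finrank_fintype_fun_eq_card]; omega)
  have he0 : e ≠ 0 := (Hyp.ne_zero C hH).1
  set L : Subgroup ↥(Cfsg.Omega F Q) :=
    (Cfsg.Geo.subspaceStabilizer (Submodule.span F {e})).comap (omegaHom Q)
  have hmemL : ∀ g, g ∈ L ↔ (omegaHom Q g).val *ᵥ e ∈ Submodule.span F {e} := fun g => by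
    refine ⟨fun h => stab_mem h (Submodule.mem_span_singleton_self e), fun h => ?_⟩
    refine mem_stab_of_mapsTo fun w hw => ?_
    obtain ⟨c, rfl⟩ := Submodule.mem_span_singleton.mp hw
    rw [Matrix.mulVec_smul]
    exact Submodule.smul_mem _ _ h
  have hiso : ∀ g, omegaHom Q g ∈ isometryGroup F Q :=
    fun g => (g : ↥(isometryGroup F Q)).2
  have hmul : Nat.card (Fˣ × (↥(Cfsg.Omega F Q) ⧸ L)) = L.index * (Nat.card F - 1) := by
    rw [Nat.card_prod, Nat.card_units, mul_comm]; rfl
  let Φ : Fˣ × (↥(Cfsg.Omega F Q) ⧸ L) → {w : ι → F // w ≠ 0 ∧ Q w = 0} := fun x =>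
    ⟨(x.1 : F) • (omegaHom Q x.2.out).val *ᵥ e,
      smul_ne_zero x.1.ne_zero (act_ne_zero he0),
      by rw [C.smul, mem_iso.mp (hiso _), hH.singE, mul_zero]⟩
  have hbij : Function.Bijective Φ := by
    constructor
    · rintro ⟨t, a⟩ ⟨t', b⟩ he
      have he' : (t : F) • (omegaHom Q a.out).val *ᵥ e = (t' : F) • (omegaHom Q b.out).val *ᵥ e :=
        congrArg Subtype.val he
      have hab : a = b := by
        rw [← QuotientGroup.out_eq' a, ← QuotientGroup.out_eq' b, QuotientGroup.eq, hmemL,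
          map_mul, map_inv, mul_act]
        have h1 : (omegaHom Q b.out).val *ᵥ e = ((t' : F)⁻¹ * t) • (omegaHom Q a.out).val *ᵥ e := by
          rw [← smul_smul, he', smul_smul, inv_mul_cancel₀ t'.ne_zero, one_smul]
        rw [h1, Matrix.mulVec_smul, inv_act]
        exact Submodule.smul_mem _ _ (Submodule.mem_span_singleton_self e)
      subst hab
      have : t = t' := Units.ext (smul_left_injective F (act_ne_zero he0) he')
      rw [this]
    · rintro ⟨w, hw0, hQw⟩
      obtain ⟨g, hg, hge⟩ := trans_top C (by omega) he0 hw0 (by rw [hH.singE, hQw])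
      rw [← omegaHom_range C (by omega)] at hg
      obtain ⟨y, rfl⟩ := hg
      obtain ⟨c, hc⟩ := Submodule.mem_span_singleton.mp
        ((hmemL _).mp (QuotientGroup.eq.mp (QuotientGroup.out_eq' (QuotientGroup.mk (s := L) y))))
      rw [map_mul, map_inv, mul_act, hge] at hc
      set z := (QuotientGroup.mk (s := L) y).out
      have hw : w = c • (omegaHom Q z).val *ᵥ e := by rw [← Matrix.mulVec_smul, hc, act_inv]
      exact ⟨(Units.mk0 c fun h0 => hw0 (by rw [hw, h0, zero_smul]), QuotientGroup.mk y),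
        Subtype.ext hw.symm⟩
  have hker : Subgroup.center ↥(Cfsg.Omega F Q) ≤ L := fun z hz => by
    rw [hmemL]
    rcases omega_center_pm C h7 hz with h | h
    · show ((z : ↥(isometryGroup F Q)) : GL ι F).val *ᵥ e ∈ _
      rw [h, Matrix.one_mulVec]; exact Submodule.mem_span_singleton_self e
    · show ((z : ↥(isometryGroup F Q)) : GL ι F).val *ᵥ e ∈ _
      rw [h, Matrix.neg_mulVec, Matrix.one_mulVec]
      exact Submodule.neg_mem _ (Submodule.mem_span_singleton_self e)
  refine ⟨L.map (QuotientGroup.mk' _), ?_⟩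
  rw [Subgroup.index_map_eq L (QuotientGroup.mk'_surjective _)
    (by rw [QuotientGroup.ker_mk']; exact hker), ← hmul]
  exact Nat.card_eq_of_bijective Φ hbij

omit [DecidableEq ι] [Finite F] in
theorem singNum_add_one [Finite F] [DecidableEq ι] (C : Space Q B) :
    singNum Q + 1 = Nat.card {w : ι → F // Q w = 0} := by
  have h1 : singNum Q = ({w : ι → F | Q w = 0} \ {0}).ncard := by
    rw [singNum, ← Nat.card_coe_set_eq]
    exact Nat.card_congr (Equiv.subtypeEquivRight fun w => by simp [and_comm])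
  rw [h1, Set.ncard_diff_singleton_add_one (show (0 : ι → F) ∈ {w : ι → F | Q w = 0} from C.zero)
    (Set.toFinite _), ← Nat.card_coe_set_eq]
  rfl

end

end Cfsg.Lib.Linear.MinIndexOrth
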