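import Cfsg.Agent.Lib.Linear.MinIndexOrth.Sets

/-!
# Annihilators with a non-singular vector: a line or everything
-/

set_option autoImplicit false

namespace Cfsg.Lib.Linear.MinIndexOrth

open Module Cfsg.Lib.Linear.Orth
open scoped Matrix

noncomputable section

variable {ι : Type} [Fintype ι] [DecidableEq ι] {F : Type*} [Field F] [Finite F]
  {Q : (ι → F) → F} {B : LinearMap.BilinForm F (ι → F)} {p : ℕ} [Fact p.Prime]
  {τ : F →+ ZMod p} {α : Type*} [MulAction ↥(Root Q B ⊤) α]

omit [Finite F] in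
/-- A vector of `U` perpendicular to all of `U ∩ a^⊥` is a multiple of `a`. -/
theorem mem_span_of_perp (C : Space Q B) {U : Submodule F (ι → F)} (hU : NDeg B U)
    {a x : ι → F} (ha : a ∈ U) (ha0 : a ≠ 0) (hx : x ∈ U)
    (hperp : ∀ y ∈ U, B a y = 0 → B x y = 0) : x ∈ Submodule.span F {a} := by
  obtain ⟨a', ha', haa'⟩ : ∃ a' ∈ U, B a a' ≠ 0 := by
    by_contra hne
    push Not at hne
    exact ha0 (hU a ha hne)
  set s := B x a' * (B a a')⁻¹ with hs
  have h0 : x - s • a = 0 := hU _ (U.sub_mem hx (U.smul_mem _ ha)) fun z hz => by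
    have h1 := hperp (z - (B a z * (B a a')⁻¹) • a') (U.sub_mem hz (U.smul_mem _ ha')) (by
      rw [map_sub, map_smul, smul_eq_mul, mul_assoc, inv_mul_cancel₀ haa', mul_one, sub_self])
    rw [map_sub, map_smul, smul_eq_mul] at h1
    rw [map_sub, LinearMap.sub_apply, map_smul, LinearMap.smul_apply, smul_eq_mul, hs]
    linear_combination h1
  exact Submodule.mem_span_singleton.mpr ⟨s, (sub_eq_zero.mp h0).symm⟩

omit [Finite F] in
theorem sGL_pow (C : Space Q B) {b c : ι → F} (hb : Q b = 0) (hbc : B b c = 0) (n : ℕ) :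
    sGL Q B b c ^ n = sGL Q B b ((n : F) • c) := by
  induction n with
  | zero => rw [pow_zero, Nat.cast_zero, zero_smul, sGL_zero_right C hb]
  | succ n ih =>
    rw [pow_succ, ih, sGL_mul C hb (by rw [map_smul, hbc, smul_zero]) hbc, Nat.cast_succ, add_smul,
      one_smul]

variable [Fintype α] (S : Setup Q B τ α) {v f : ι → F} (h : Hyp Q B ⊤ v f)

include S h

open scoped Classical in
omit [Finite F] [Fintype α] in
theorem aset_map_one {g : GL ι F} (hg : g ∈ Root Q B ⊤) (hgv : g.val *ᵥ v = v)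
    (hgf : g.val *ᵥ f = f) (x : α) (n : ℕ) :
    (fun A : AddSubgroup (ι → F) => A.map (tr g 1))^[n] (aset τ Q B v f x) =
      aset τ Q B v f (mv Q B (g ^ n) x) := by
  induction n with
  | zero => rw [Function.iterate_zero, id_eq, pow_zero, mv_one]
  | succ n ih =>
    rw [Function.iterate_succ_apply', ih, aset_fix τ S.space h hg hgv hgf, pow_succ',
      mv_mul hg (pow_mem hg n)]

/-- An element of order `p` fixing `a` cannot move an annihilator through a non-singular `a`. -/
theorem moved_contra {x : α} {a : ι → F} (ha : a ∈ aset τ Q B v f x) (hQa : Q a ≠ 0)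
    {g : GL ι F} (hg : g ∈ Root Q B ⊤) (hgv : g.val *ᵥ v = v) (hgf : g.val *ᵥ f = f)
    (hga : g.val *ᵥ a = a) (hgp : g ^ p = 1)
    (hmove : (aset τ Q B v f x).map (tr g 1) ≠ aset τ Q B v f x) : False := by
  classical
  set φ : AddSubgroup (ι → F) → AddSubgroup (ι → F) := fun A => A.map (tr g 1)
  have hit := aset_map_one S h hg hgv hgf x
  have hper : Function.IsPeriodicPt φ p (aset τ Q B v f x) := by
    show φ^[p] _ = _
    rw [hit p, hgp, mv_one]
  have hmin : Function.minimalPeriod φ (aset τ Q B v f x) = p := by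
    rcases (Nat.dvd_prime (Fact.out : p.Prime)).mp hper.minimalPeriod_dvd with h1 | h1
    · exact absurd (Function.minimalPeriod_eq_one_iff_isFixedPt.mp h1) hmove
    · exact h1
  have hinj := Function.iterate_injOn_Iio_minimalPeriod (f := φ) (x := aset τ Q B v f x)
  rw [hmin] at hinj
  have ha0 : a ≠ 0 := fun h0 => hQa (h0 ▸ S.space.zero)
  have hmem : ∀ n : ℕ, a ∈ φ^[n] (aset τ Q B v f x) := fun n => by
    induction n with
    | zero => exact ha
    | succ n ih =>
      rw [Function.iterate_succ_apply']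
      exact ⟨a, ih, by rw [tr_apply, inv_one, one_smul, hga]⟩
  have hk : p ≤ ((asets (α := α) τ Q B v f).filter fun A => a ∈ A ∧ True).card := by
    calc p = (Finset.range p).card := (Finset.card_range p).symm
      _ ≤ _ := Finset.card_le_card_of_injOn (fun n => φ^[n] (aset τ Q B v f x))
          (fun n _ => Finset.mem_filter.mpr
            ⟨mem_asets.mpr ⟨_, (hit n).symm⟩, hmem n, trivial⟩)
          (fun i hi j hj he => hinj (by simpa using hi) (by simpa using hj) he)
  have hcov := class_le S.toBase h (T := asets (α := α) τ Q B v f) subset_rfl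
    (Cs := (cls Q (X B v f) a).toFinite.toFinset) (k := p) fun c hc => by
      have h1 := spread (α := α) S.toBase h (aset_le τ ha) ha0
        (P := fun _ => True) (fun _ _ _ _ _ _ _ _ _ => trivial)
        ((Set.Finite.mem_toFinset _).mp hc)
      refine le_trans ?_ (le_trans h1 ?_)
      · exact hk.trans (le_of_eq (by congr))
      refine Finset.card_le_card fun A hA => ?_
      simp only [Finset.mem_filter] at hA ⊢
      exact ⟨hA.1, hA.2.1⟩
  rw [← Set.ncard_eq_toFinset_card] at hcov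
  refine cls_contra S h hQa hcov ?_
  have hp2 := (Fact.out : p.Prime).two_le
  by_cases h2 : (2 : F) = 0
  · exact Or.inl ⟨h2, hp2⟩
  have hne2 : p ≠ 2 := fun e => h2 (by
    have := charP_of_hom S.tau
    have := CharP.cast_eq_zero F p
    rw [e] at this
    exact_mod_cast this)
  by_cases h6 : 6 ≤ Nat.card F
  · exact Or.inr (Or.inl ⟨h6, by omega⟩)
  have hq4 := S.q4
  have hdvd := S.prime_dvd
  have hle := Nat.le_of_dvd (by omega) hdvd
  have hcases : Nat.card F = 4 ∨ Nat.card F = 5 := by omega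
  rcases hcases with hc | hc <;> rw [hc] at hdvd hle
  · exfalso
    interval_cases p <;> first
      | omega
      | exact absurd (Fact.out : Nat.Prime 4) (by norm_num)
  · have := (Nat.prime_dvd_prime_iff_eq (Fact.out : p.Prime) Nat.prime_five).mp hdvd
    exact Or.inr (Or.inr ⟨by omega, by omega⟩)

/-- The hyperplane case: every vector of the class has its own annihilator. -/
theorem hyperplane_contra {x : α} {a : ι → F} (ha : a ∈ X B v f) (hQa : Q a ≠ 0)
    (hY : ∀ y ∈ X B v f, B a y = 0 → y ∈ aset τ Q B v f x)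
    (hfull : ¬ ∀ y ∈ X B v f, y ∈ aset τ Q B v f x) : False := by
  classical
  have C := S.space
  have h5 : 5 ≤ Fintype.card ι := by have := S.n7; omega
  have ha0 : a ≠ 0 := fun h0 => hQa (h0 ▸ C.zero)
  set Cs := (cls Q (X B v f) a).toFinite.toFinset with hCs
  have hex : ∀ c ∈ Cs, ∃ A ∈ asets (α := α) τ Q B v f,
      (∀ y ∈ X B v f, B c y = 0 → y ∈ A) ∧ ¬ ∀ y ∈ X B v f, y ∈ A := by
    intro c hc
    obtain ⟨hcX, hc0, t, ht, hQ⟩ := (Set.Finite.mem_toFinset _).mp hc
    obtain ⟨g, hg, hgv, hgf, hga⟩ := exists_class_map C h5 h S.n7 ha hcX ha0 hc0 ht hQ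
    have hI := root_le_iso C _ hg
    have hgf' : g.val *ᵥ f = t⁻¹⁻¹ • f := by rw [inv_inv]; exact hgf
    have htr := aset_transport τ C h h hg (inv_ne_zero ht) hgv hgf' x
    refine ⟨_, mem_asets.mpr ⟨mv Q B g x, rfl⟩, fun y hy hcy => ?_, fun hA => hfull fun y hy => ?_⟩
    · set y0 := (g⁻¹ : GL ι F).val *ᵥ (t⁻¹ • y) with hy0
      have hv' : (g⁻¹ : GL ι F).val *ᵥ v = t • v := by
        conv_lhs => rw [show v = t • g.val *ᵥ v by rw [hgv, smul_smul, mul_inv_cancel₀ ht, one_smul]]
        rw [Matrix.mulVec_smul, inv_act]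
      have hf' : (g⁻¹ : GL ι F).val *ᵥ f = t⁻¹ • f := by
        conv_lhs =>
          rw [show f = t⁻¹ • g.val *ᵥ f by rw [hgf, smul_smul, inv_mul_cancel₀ ht, one_smul]]
        rw [Matrix.mulVec_smul, inv_act]
      have hy0X : y0 ∈ X B v f := act_mem_X C h (inv_mem hI) ht hv' hf'
        (Submodule.smul_mem _ _ hy)
      have hgy : g.val *ᵥ y0 = t⁻¹ • y := act_inv g _
      have hay : B a y0 = 0 := by
        have h1 := C.B_act hI a y0
        rw [hgy] at h1
        rw [← hga, map_smul, LinearMap.smul_apply, smul_eq_mul] at hcy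
        rw [map_smul, smul_eq_mul, (mul_eq_zero.mp hcy).resolve_left ht, mul_zero] at h1
        exact h1.symm
      rw [← htr]
      refine ⟨y0, hY y0 hy0X hay, ?_⟩
      rw [tr_apply, inv_inv, hgy, smul_smul, mul_inv_cancel₀ ht, one_smul]
    · have h1 := hA (tr g t⁻¹ y) (Submodule.smul_mem _ _
        (act_mem_X C h hI (inv_ne_zero ht) hgv hgf' hy))
      rw [← htr] at h1
      obtain ⟨z, hz, hze⟩ := h1
      rwa [← tr_injective g (inv_ne_zero ht) hze]
  choose! Φ hΦ hΦY hΦF using hex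
  have hfib : ∀ A ∈ Cs.image Φ, (Cs.filter fun c => Φ c = A).card ≤ Nat.card F - 1 := by
    intro A hA
    obtain ⟨c, hc, rfl⟩ := Finset.mem_image.mp hA
    have := Fintype.ofFinite F
    rw [Nat.card_eq_fintype_card, ← Fintype.card_units (α := F), ← Finset.card_univ]
    refine (Finset.card_le_card (t := Finset.univ.image fun u : Fˣ => (u : F) • c)
      fun d hd => ?_).trans Finset.card_image_le
    obtain ⟨hd, hde⟩ := Finset.mem_filter.mp hd
    obtain ⟨hcX, hc0, -⟩ := (Set.Finite.mem_toFinset _).mp hc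
    obtain ⟨hdX, hd0, -⟩ := (Set.Finite.mem_toFinset _).mp hd
    have hmem : d ∈ Submodule.span F {c} := by
      by_contra hnot
      obtain ⟨w, hw, hcw, hdw⟩ : ∃ w ∈ X B v f, B c w = 0 ∧ B d w ≠ 0 := by
        by_contra hne
        push Not at hne
        exact hnot (mem_span_of_perp C (X_ndeg C h) hcX hc0 hdX hne)
      refine hΦF c hc fun z hz => ?_
      rw [show z = (B d z * (B d w)⁻¹) • w + (z - (B d z * (B d w)⁻¹) • w) by abel]
      refine add_mem (hΦY c hc _ (Submodule.smul_mem _ _ hw) (by rw [map_smul, hcw, smul_zero])) ?_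
      rw [← hde]
      exact hΦY d hd _ (Submodule.sub_mem _ hz (Submodule.smul_mem _ _ hw)) (by
        rw [map_sub, map_smul, smul_eq_mul, mul_assoc, inv_mul_cancel₀ hdw, mul_one, sub_self])
    obtain ⟨u, rfl⟩ := Submodule.mem_span_singleton.mp hmem
    exact Finset.mem_image.mpr
      ⟨Units.mk0 u fun h0 => hd0 (by rw [h0, zero_smul]), Finset.mem_univ _, rfl⟩
  have h1 : Cs.card ≤ (Nat.card F - 1) * (Cs.image Φ).card :=
    Finset.card_le_mul_card_image Cs _ hfib
  have hsum := sum_card_le S.toBase h (T := Cs.image Φ) (fun A hA => by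
    obtain ⟨c, hc, rfl⟩ := Finset.mem_image.mp hA
    exact hΦ c hc)
  obtain ⟨j, hj, hjX⟩ := S.finrank_X h
  have hlow : ∀ A ∈ Cs.image Φ, Nat.card F ^ (j + 4) ≤ Nat.card ↥A := by
    intro A hA
    obtain ⟨c, hc, rfl⟩ := Finset.mem_image.mp hA
    have hd := finrank_inf_ker_ge C (X B v f) c
    calc Nat.card F ^ (j + 4)
        ≤ Nat.card F ^ finrank F ↥(X B v f ⊓ LinearMap.ker (B c)) :=
          Nat.pow_le_pow_right Nat.card_pos (by omega)
      _ = Nat.card ↥(X B v f ⊓ LinearMap.ker (B c)) := (card_submodule _).symm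
      _ ≤ _ := Nat.card_le_card_of_injective
          (fun y => ⟨y.1, hΦY c hc y.1 y.2.1 (LinearMap.mem_ker.mp y.2.2)⟩)
          fun y z e => Subtype.ext (congrArg (fun y => y.1) e)
  have h2 : (Cs.image Φ).card * Nat.card F ^ (j + 4) ≤ Nat.card α := by
    refine le_trans ?_ hsum
    rw [← smul_eq_mul]
    exact Finset.card_nsmul_le_sum _ _ _ hlow
  have h3 := (cls_bound S.toBase h hQa hj).1
  rw [Set.ncard_eq_toFinset_card (cls Q (X B v f) a) (Set.toFinite _), ← hCs] at h3
  have hs := S.small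
  rw [hj, show j + 7 - 1 = (j + 4) + 2 by omega, show j + 7 - 4 = j + 3 by omega,
    pow_add _ (j + 4) 2] at hs
  have hq := S.q4
  obtain ⟨q, hq'⟩ : ∃ q, Nat.card F = q + 1 := ⟨Nat.card F - 1, by omega⟩
  simp only [hq', Nat.add_sub_cancel] at h1 h2 h3 hs hq
  have hpw : (q + 1) ^ (j + 3) ≤ (q + 1) ^ (j + 4) := Nat.pow_le_pow_right (by omega) (by omega)
  have hM : 16 ≤ (q + 1) ^ (j + 2) := by
    calc 16 ≤ (q + 1) ^ 2 := by nlinarith
      _ ≤ _ := Nat.pow_le_pow_right (by omega) (by omega)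
  have hsq : (q + 1) ^ 2 - 1 = q * (q + 2) := by
    rw [show (q + 1) ^ 2 = q * (q + 2) + 1 by ring, Nat.add_sub_cancel]
  rw [hsq] at h3
  have h4 : 16 * (q * (q * (q + 2))) ≤ 2 * (q * (Cs.image Φ).card) := by
    calc 16 * (q * (q * (q + 2))) ≤ q * ((q + 1) ^ (j + 2) * (q * (q + 2))) := by
          rw [mul_left_comm q ((q + 1) ^ (j + 2))]
          exact Nat.mul_le_mul_right _ hM
      _ ≤ 2 * Cs.card := h3
      _ ≤ _ := by omega
  have h5' : ((q + 1) ^ 2 + 1) ≤ q * (Cs.image Φ).card := by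
    have h8 : (q + 1) ^ 2 + 1 ≤ 8 * (q * (q * (q + 2))) := by
      have : 9 ≤ q * q := by nlinarith
      nlinarith
    omega
  have h6 := Nat.mul_le_mul_left q h2
  have h7 := Nat.mul_le_mul_left ((q + 1) ^ (j + 4)) h5'
  nlinarith

/-- An annihilator with a non-singular vector is a line or everything. -/
theorem nonsing_cases {x : α} {a : ι → F} (ha : a ∈ aset τ Q B v f x) (hQa : Q a ≠ 0) :
    (∀ b ∈ aset τ Q B v f x, b ∈ Submodule.span F {a}) ∨
      ∀ y ∈ X B v f, y ∈ aset τ Q B v f x := by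
  have C := S.space
  have haX := aset_le τ ha
  have ha0 : a ≠ 0 := fun h0 => hQa (h0 ▸ C.zero)
  have hX := X_ndeg C h
  have hdX := MinIndexOrth.finrank_X C h
  have h7 := S.n7
  refine or_iff_not_imp_left.mpr fun hline => ?_
  push Not at hline
  obtain ⟨x₀, hx₀, hx₀a⟩ := hline
  have hinv : ∀ b c, b ∈ X B v f → c ∈ X B v f → Q b = 0 → B b c = 0 → B b a = 0 → B c a = 0 →
      ∀ y ∈ aset τ Q B v f x, (sGL Q B b c).val *ᵥ y - y ∈ aset τ Q B v f x := by
    intro b c hb hc hQb hbc hba hca y hy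
    have hg : sGL Q B b c ∈ Root Q B ⊤ := sGL_mem_root trivial trivial hQb hbc
    obtain ⟨hgv, hgf⟩ := root_fix C h (sGL_mem_root (U := X B v f) hb hc hQb hbc)
    by_contra hy'
    refine moved_contra S h ha hQa hg hgv hgf ?_ ?_ fun he => hy' (sub_mem ?_ hy)
    · rw [sGL_act C hQb hbc, hba, hca]; simp
    · rw [sGL_pow C hQb hbc]
      have := charP_of_hom S.tau
      rw [CharP.cast_eq_zero, zero_smul, sGL_zero_right C hQb]
    · rw [← he]
      exact ⟨y, hy, by rw [tr_apply, inv_one, one_smul]⟩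
  set Y := X B v f ⊓ LinearMap.ker (B a) with hYdef
  have hmemY : ∀ {y}, y ∈ Y ↔ y ∈ X B v f ∧ B a y = 0 := fun {y} => by simp [hYdef]
  have core : ∀ b ∈ Y, Q b = 0 → ∀ y ∈ aset τ Q B v f x, B b y = 1 →
      (∀ t : F, t • b ∈ aset τ Q B v f x) ∧
        ∀ c ∈ Y, B b c = 0 → c ∈ aset τ Q B v f x := by
    intro b hb hQb y hy hby
    obtain ⟨hbX, hab⟩ := hmemY.mp hb
    have hba : B b a = 0 := by rw [C.symm]; exact hab
    have hb0 : b ≠ 0 := fun h0 => by simp [h0] at hby
    have hd : ∀ c ∈ Y, B b c = 0 → c - (B c y + Q c) • b ∈ aset τ Q B v f x := by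
      intro c hc hbc
      obtain ⟨hcX, hac⟩ := hmemY.mp hc
      have := hinv b c hbX hcX hQb hbc hba (by rw [C.symm]; exact hac) y hy
      rwa [sGL_act C hQb hbc, hby, one_smul, mul_one,
        show y + c - (B c y + Q c) • b - y = c - (B c y + Q c) • b by abel] at this
    obtain ⟨c, hc, c', hc', hcc⟩ : ∃ c ∈ Y ⊓ LinearMap.ker (B b),
        ∃ c' ∈ Y ⊓ LinearMap.ker (B b), B c c' ≠ 0 := by
      by_contra hne
      push Not at hne
      set Z := Y ⊓ LinearMap.ker (B b)
      have hvZ : ∀ z ∈ Z, B v z = 0 := fun z hz => X.left (hmemY.mp hz.1).1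
      have hiso : ∀ p ∈ Z ⊔ Submodule.span F {v}, ∀ r ∈ Z ⊔ Submodule.span F {v}, B p r = 0 := by
        intro p hp r hr
        obtain ⟨z, hz, s, hs, rfl⟩ := Submodule.mem_sup.mp hp
        obtain ⟨z', hz', s', hs', rfl⟩ := Submodule.mem_sup.mp hr
        obtain ⟨u, rfl⟩ := Submodule.mem_span_singleton.mp hs
        obtain ⟨u', rfl⟩ := Submodule.mem_span_singleton.mp hs'
        simp [hne z hz z' hz', hvZ z' hz', C.symm z v, hvZ z hz, C.self_zero h.singE]
      have h1 := iso_bound C hiso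
      have hlt : Z < Z ⊔ Submodule.span F {v} := lt_of_le_of_ne le_sup_left fun he => by
        have hvX : v ∈ Z := he ▸ Submodule.mem_sup_right (Submodule.mem_span_singleton_self v)
        have := X.right (hmemY.mp hvX.1).1
        rw [h.pair' C] at this
        exact one_ne_zero this
      have h2 := Submodule.finrank_lt_finrank_of_lt hlt
      have h3 := finrank_inf_ker_ge C (X B v f) a
      have h4 := finrank_inf_ker_ge C Y b
      change finrank F (X B v f) ≤ finrank F Y + 1 at h3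
      change finrank F Y ≤ finrank F Z + 1 at h4
      omega
    obtain ⟨hcY, hbc⟩ := Submodule.mem_inf.mp hc
    obtain ⟨hc'Y, hbc'⟩ := Submodule.mem_inf.mp hc'
    rw [LinearMap.mem_ker] at hbc hbc'
    have hline : ∀ t : F, t • b ∈ aset τ Q B v f x := by
      intro t
      set s := -t * (B c c')⁻¹ with hs
      have h1 := hd c hcY hbc
      have h2 := hd (s • c') (Y.smul_mem _ hc'Y) (by rw [map_smul, hbc', smul_zero])
      have h3 := hd (c + s • c') (Y.add_mem hcY (Y.smul_mem _ hc'Y))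
        (by rw [map_add, map_smul, hbc, hbc']; simp)
      have h4 := sub_mem (sub_mem h3 h1) h2
      have he : c + s • c' - (B (c + s • c') y + Q (c + s • c')) • b - (c - (B c y + Q c) • b) -
          (s • c' - (B (s • c') y + Q (s • c')) • b) = t • b := by
        rw [C.add, map_add, LinearMap.add_apply, map_smul (B c), smul_eq_mul, hs]
        match_scalars <;> field_simp <;> ring
      rwa [he] at h4
    refine ⟨hline, fun c hc hbc => ?_⟩
    have := add_mem (hd c hc hbc) (hline (B c y + Q c))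
    rwa [sub_add_cancel] at this
  have hYd : 4 ≤ finrank F Y := by
    have h3 := finrank_inf_ker_ge C (X B v f) a
    change finrank F (X B v f) ≤ finrank F Y + 1 at h3
    omega
  have hpart : ∀ b ∈ Y, Q b = 0 → b ≠ 0 → ∃ b', Hyp Q B Y b b' := by
    intro b hb hQb hb0
    refine exists_hyp_of_pair C hb hQb ?_
    by_contra hne
    push Not at hne
    obtain ⟨hbX, hab⟩ := hmemY.mp hb
    obtain ⟨s, rfl⟩ := Submodule.mem_span_singleton.mp
      (mem_span_of_perp C hX haX ha0 hbX fun y hy hay => hne y (hmemY.mpr ⟨hy, hay⟩))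
    rw [C.smul, mul_eq_zero] at hQb
    exact hb0 (by rw [(pow_eq_zero_iff two_ne_zero).mp (hQb.resolve_right hQa), zero_smul])
  obtain ⟨b, hb, hQb, hbx⟩ : ∃ b ∈ Y, Q b = 0 ∧ B b x₀ ≠ 0 := by
    obtain ⟨e, he, he0, hQe⟩ := Sing.exists_singular C.smul C.polar Y (by omega)
    obtain ⟨e', he'⟩ := hpart e he hQe he0
    by_contra hne
    push Not at hne
    refine hx₀a (mem_span_of_perp C hX haX ha0 (aset_le τ hx₀) fun y hy hay => ?_)
    rw [C.symm]
    exact (Submodule.span_le (p := LinearMap.ker (B.flip x₀))).mpr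
      (fun w hw => LinearMap.mem_ker.mpr (hne w hw.1 hw.2))
      (span_sing_hyp C he' (hmemY.mpr ⟨hy, hay⟩))
  obtain ⟨hline, hperp⟩ := core ((B b x₀)⁻¹ • b) (Y.smul_mem _ hb)
    (by rw [C.smul, hQb, mul_zero]) x₀ hx₀
    (by rw [map_smul, LinearMap.smul_apply, smul_eq_mul, inv_mul_cancel₀ hbx])
  set b₁ := (B b x₀)⁻¹ • b
  have hb₁ : b₁ ∈ Y := Y.smul_mem _ hb
  have hQb₁ : Q b₁ = 0 := by rw [C.smul, hQb, mul_zero]
  have hb₁x : B b₁ x₀ = 1 := by
    rw [map_smul, LinearMap.smul_apply, smul_eq_mul, inv_mul_cancel₀ hbx]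
  obtain ⟨b', hH⟩ := hpart b₁ hb₁ hQb₁ fun h0 => by simp [h0] at hb₁x
  have hb₁A : b₁ ∈ aset τ Q B v f x := by simpa using hline 1
  obtain ⟨hline', -⟩ := core b' hH.memF hH.singF b₁ hb₁A (hH.pair' C)
  have hYA : ∀ y ∈ X B v f, B a y = 0 → y ∈ aset τ Q B v f x := by
    intro y hy hay
    rw [show y = (y - B b₁ y • b') + B b₁ y • b' by abel]
    refine add_mem (hperp _ (Y.sub_mem (hmemY.mpr ⟨hy, hay⟩) (Y.smul_mem _ hH.memF)) ?_) (hline' _)
    have := hH.pair
    generalize hb₂ : b₁ = b₂ at this ⊢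
    rw [map_sub, map_smul, this, smul_eq_mul, mul_one, sub_self]
  by_contra hfull
  exact hyperplane_contra S h haX hQa hYA hfull

end

end Cfsg.Lib.Linear.MinIndexOrth
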