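import Cfsg.Agent.Lib.Linear.MinIndexOrth.Nonsing

/-!
# A regular orbit of the elements with centre `v` forces the number of singular lines
-/

set_option autoImplicit false

namespace Cfsg.Lib.Linear.MinIndexOrth

open Module Cfsg.Lib.Linear.Orth
open scoped Matrix

noncomputable section

variable {ι : Type} [Fintype ι] [DecidableEq ι] {F : Type*} [Field F] [Finite F]
  {Q : (ι → F) → F} {B : LinearMap.BilinForm F (ι → F)} {p : ℕ} [Fact p.Prime]
  {τ : F →+ ZMod p} {α : Type*} [MulAction ↥(Root Q B ⊤) α]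

/-- The number of non-zero singular vectors. -/
def singNum (Q : (ι → F) → F) : ℕ := Nat.card {w : ι → F // w ≠ 0 ∧ Q w = 0}

/-- A point whose stabiliser fixes a singular line bounds the singular lines by the points. -/
theorem lines_le [Finite α] [MulAction.IsPretransitive ↥(Root Q B ⊤) α] (C : Space Q B)
    (h5 : 5 ≤ Fintype.card ι) {o : α} {u : ι → F} (hu0 : u ≠ 0) (hQu : Q u = 0)
    (hstab : ∀ g ∈ Stab Q B o, g.val *ᵥ u ∈ Submodule.span F {u}) :
    singNum Q ≤ (Nat.card F - 1) * Nat.card α := by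
  have hex : ∀ y : α, ∃ g ∈ Root Q B ⊤, mv Q B g o = y := fun y => by
    obtain ⟨⟨g, hg⟩, hgo⟩ := MulAction.exists_smul_eq ↥(Root Q B ⊤) o y
    exact ⟨g, hg, by rw [mv_eq hg]; exact hgo⟩
  choose G hG hGo using hex
  have hmul : Nat.card (Fˣ × α) = (Nat.card F - 1) * Nat.card α := by
    rw [Nat.card_prod, Nat.card_units]
  rw [← hmul]
  let Φ : Fˣ × α → {w : ι → F // w ≠ 0 ∧ Q w = 0} := fun x =>
    ⟨(x.1 : F) • (G x.2).val *ᵥ u, smul_ne_zero x.1.ne_zero (act_ne_zero hu0),
      by rw [C.smul, mem_iso.mp (root_le_iso C _ (hG _)), hQu, mul_zero]⟩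
  refine Nat.card_le_card_of_surjective Φ fun w => ?_
  obtain ⟨g, hg, hgu⟩ := trans_top C h5 hu0 w.2.1 (by rw [hQu, w.2.2])
  set y := mv Q B g o
  have hmem : (G y)⁻¹ * g ∈ Stab Q B o := by
    rw [mem_Stab (mul_mem (inv_mem (hG y)) hg), mv_mul (inv_mem (hG y)) hg]
    show mv Q B (G y)⁻¹ y = o
    conv_lhs => arg 4; rw [← hGo y]
    rw [mv_inv (hG y)]
  obtain ⟨c, hc⟩ := Submodule.mem_span_singleton.mp (hstab _ hmem)
  have hgu' : w.1 = c • (G y).val *ᵥ u := by
    rw [← hgu, ← Matrix.mulVec_smul, hc, mul_act, act_inv]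
  refine ⟨(Units.mk0 c fun h0 => w.2.1 (by rw [hgu', h0, zero_smul]), y), Subtype.ext hgu'.symm⟩

section

variable (S : Base Q B τ) {v f : ι → F} (h : Hyp Q B ⊤ v f)

include S h

theorem full_card {x : α} (hfull : ∀ y ∈ X B v f, y ∈ aset τ Q B v f x) {j : ℕ}
    (hj : finrank F (X B v f) = j + 5) :
    Nat.card ↥(aset τ Q B v f x) = Nat.card F ^ (j + 5) := by
  rw [← hj, ← card_submodule]
  exact Nat.card_congr
    ⟨fun a => ⟨a.1, aset_le τ a.2⟩, fun a => ⟨a.1, hfull a.1 a.2⟩, fun _ => rfl, fun _ => rfl⟩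

/-- Nothing but the identity of the elements with centre `v` fixes a regular point. -/
theorem full_sset {x : α} (hfull : ∀ y ∈ X B v f, y ∈ aset τ Q B v f x) {w : ι → F}
    (hw : w ∈ X B v f) (hmem : sGL Q B v w ∈ Stab Q B x) : w = 0 :=
  X_ndeg S.space h w hw fun y hy => by
    rw [S.space.symm]
    refine B_eq_zero_of_hom S.tau fun t => ?_
    have := (hfull (t • y) (Submodule.smul_mem _ _ hy)).2 w ⟨hw, hmem⟩
    rwa [map_smul, LinearMap.smul_apply, ← map_smul] at this

end

variable [Fintype α] (S : Setup Q B τ α) {v f : ι → F} (h : Hyp Q B ⊤ v f)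

include S h

/-- Next to a regular orbit every annihilator with a non-singular vector is everything. -/
theorem full_of_nonsing {x : α} (hfull : ∀ y ∈ X B v f, y ∈ aset τ Q B v f x) {y : α}
    {a : ι → F} (ha : a ∈ aset τ Q B v f y) (hQa : Q a ≠ 0) :
    ∀ z ∈ X B v f, z ∈ aset τ Q B v f y := by
  classical
  by_contra hne
  have C := S.space
  have ha0 : a ≠ 0 := fun h0 => hQa (h0 ▸ C.zero)
  obtain ⟨P, hPdef⟩ : ∃ P : AddSubgroup (ι → F) → Prop, ∀ A, P A ↔ ¬ ∀ z ∈ X B v f, z ∈ A :=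
    ⟨_, fun A => Iff.rfl⟩
  have hP : Invariant Q B v f P := fun g c hg hc hgv hgf A hA hPA =>
    (hPdef _).mpr fun hfull' => (hPdef A).mp hPA fun z hz => by
    obtain ⟨w, hw, hwe⟩ := hfull' _ (Submodule.smul_mem _ c⁻¹
      (act_mem_X C h (root_le_iso C _ hg) hc hgv hgf hz))
    rwa [← tr_injective g hc hwe]
  set T := (asets (α := α) τ Q B v f).filter P
  set Cs := (cls Q (X B v f) a).toFinite.toFinset
  have hcov : 1 * Cs.card ≤ ∑ A ∈ T, Nat.card ↥A := cover_sum S.toBase h fun c hc => by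
    obtain ⟨A, hA⟩ := Finset.card_pos.mp (lt_of_lt_of_le
      (Finset.card_pos.mpr ⟨_, Finset.mem_filter.mpr ⟨mem_asets.mpr ⟨y, rfl⟩, ha, (hPdef _).mpr hne⟩⟩)
      (spread (α := α) S.toBase h (aset_le τ ha) ha0 hP ((Set.Finite.mem_toFinset _).mp hc)))
    obtain ⟨h1, h2, h3⟩ := Finset.mem_filter.mp hA
    exact Finset.card_pos.mpr ⟨A, Finset.mem_filter.mpr ⟨Finset.mem_filter.mpr ⟨h1, h3⟩, h2⟩⟩
  obtain ⟨j, hj, hjX⟩ := S.finrank_X h
  have hnot : aset τ Q B v f x ∉ T := fun hm => (hPdef _).mp (Finset.mem_filter.mp hm).2 hfull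
  have hsum := sum_card_le S.toBase h (T := insert (aset τ Q B v f x) T)
    (Finset.insert_subset (mem_asets.mpr ⟨x, rfl⟩) (Finset.filter_subset _ _))
  rw [Finset.sum_insert hnot, full_card S.toBase h hfull hjX] at hsum
  rw [one_mul, ← Set.ncard_eq_toFinset_card] at hcov
  obtain ⟨hodd, heven⟩ := cls_bound S.toBase h hQa hj
  have hs := S.small
  rw [hj, show j + 7 - 1 = (j + 2) + 4 by omega, show j + 7 - 4 = (j + 2) + 1 by omega] at hs
  rw [show j + 5 = (j + 2) + 3 by omega] at hsum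
  set c := (cls Q (X B v f) a).ncard
  have h25 := S.two_or_five
  have hq := S.q4
  obtain ⟨q, hq'⟩ : ∃ q, Nat.card F = q + 1 := ⟨Nat.card F - 1, by omega⟩
  simp only [hq', Nat.add_sub_cancel, pow_add _ (j + 2) 4, pow_add _ (j + 2) 1,
    pow_add _ (j + 2) 3] at hsum hs hodd heven h25 hq
  set M := (q + 1) ^ (j + 2)
  have hsq : (q + 1) ^ 2 - 1 = q * (q + 2) := by
    rw [show (q + 1) ^ 2 = q * (q + 2) + 1 by ring, Nat.add_sub_cancel]
  rw [hsq] at hodd heven
  have hN : q * (M * (q + 1) ^ 3 + c) ≤ q * Nat.card α := Nat.mul_le_mul_left q (by omega)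
  rcases h25 with h2 | h5
  · have h3 := Nat.mul_le_mul_left q (heven h2)
    obtain ⟨r, rfl⟩ : ∃ r, q = r + 3 := ⟨q - 3, by omega⟩
    ring_nf at h3 hN hs
    nlinarith [Nat.zero_le (M * r), Nat.zero_le (M * r ^ 2), Nat.zero_le (M * r ^ 3),
      Nat.zero_le (M * r ^ 4)]
  · have h3 := Nat.mul_le_mul_left q hodd
    obtain ⟨r, rfl⟩ : ∃ r, q = r + 4 := ⟨q - 4, by omega⟩
    ring_nf at h3 hN hs
    nlinarith [Nat.zero_le (M * r), Nat.zero_le (M * r ^ 2), Nat.zero_le (M * r ^ 3),
      Nat.zero_le (M * r ^ 4)]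

/-- All regular points at a frame form one orbit. -/
theorem full_orbit {x y : α} (hx : ∀ z ∈ X B v f, z ∈ aset τ Q B v f x)
    (hy : ∀ z ∈ X B v f, z ∈ aset τ Q B v f y) :
    ∃ w ∈ X B v f, mv Q B (sGL Q B v w) x = y := by
  classical
  by_contra hne
  push Not at hne
  obtain ⟨j, hj, hjX⟩ := S.finrank_X h
  have he : aset τ Q B v f y = aset τ Q B v f x := le_antisymm (fun z hz => hx z (aset_le τ hz))
    fun z hz => hy z (aset_le τ hz)
  have h2 := two_mul_le_fibre τ S.space S.tau h x he hne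
  rw [full_card S.toBase h hx hjX] at h2
  have h3 := h2.trans (Finset.card_le_univ _)
  rw [← Nat.card_eq_fintype_card, show j + 5 = (j + 2) + 3 by omega] at h3
  have hs := S.small
  rw [hj, show j + 7 - 1 = (j + 2) + 4 by omega, show j + 7 - 4 = (j + 2) + 1 by omega] at hs
  have hq := S.q4
  obtain ⟨q, hq'⟩ : ∃ q, Nat.card F = q + 1 := ⟨Nat.card F - 1, by omega⟩
  simp only [hq', Nat.add_sub_cancel, pow_add _ (j + 2) 4, pow_add _ (j + 2) 1,
    pow_add _ (j + 2) 3] at h3 hs hq
  set M := (q + 1) ^ (j + 2)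
  have h4 := Nat.mul_le_mul_left q h3
  obtain ⟨r, rfl⟩ : ∃ r, q = r + 3 := ⟨q - 3, by omega⟩
  ring_nf at h4 hs
  nlinarith [Nat.zero_le (M * r), Nat.zero_le (M * r ^ 2), Nat.zero_le (M * r ^ 3),
    Nat.zero_le (M * r ^ 4)]

variable [MulAction.IsPretransitive ↥(Root Q B ⊤) α]

/-- A regular orbit forces at least as many points as singular lines. -/
theorem singNum_le_of_full {x : α} (hfull : ∀ y ∈ X B v f, y ∈ aset τ Q B v f x) :
    singNum Q ≤ (Nat.card F - 1) * Nat.card α := by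
  classical
  have C := S.space
  have h7 := S.n7
  have h5 : 5 ≤ Fintype.card ι := by omega
  have hX := X_ndeg C h
  have hX3 : 3 ≤ finrank F (X B v f) := by have := MinIndexOrth.finrank_X C h; omega
  obtain ⟨μ, hμ0, hμ1⟩ : ∃ μ : F, μ ≠ 0 ∧ μ ^ 2 ≠ 1 := by
    have := Fintype.ofFinite F
    have hc : ({0, 1, -1} : Finset F).card < (Finset.univ : Finset F).card := by
      rw [Finset.card_univ, ← Nat.card_eq_fintype_card]
      have := S.q4
      have := Finset.card_le_three (a := (0 : F)) (b := 1) (c := -1)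
      omega
    obtain ⟨μ, -, hμ⟩ := Finset.exists_mem_notMem_of_card_lt_card hc
    simp only [Finset.mem_insert, Finset.mem_singleton, not_or] at hμ
    exact ⟨μ, hμ.1, fun he => (sq_eq_one_iff.mp he).elim hμ.2.1 hμ.2.2⟩
  obtain ⟨s, hs, hsv, hsf, hsX⟩ := exists_scale C h5 h hμ0
  set t := μ ^ 2
  have ht : t ≠ 0 := pow_ne_zero 2 hμ0
  have hsconj : ∀ w ∈ X B v f, s * sGL Q B v w = sGL Q B v (t • w) * s := fun w hw => by
    have h1 := sGL_conj C h.singE (X.left hw) (root_le_iso C _ hs)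
    rw [hsv, hsX w hw, sGL_smul C h.singE (X.left hw)] at h1
    rw [← h1, inv_mul_cancel_right]
  have hfull_g : ∀ g ∈ Root Q B ⊤, ∀ (c : F), c ≠ 0 → g.val *ᵥ v = c • v →
      g.val *ᵥ f = c⁻¹ • f → ∀ y : α, (∀ z ∈ X B v f, z ∈ aset τ Q B v f y) →
      ∀ z ∈ X B v f, z ∈ aset τ Q B v f (mv Q B g y) := by
    intro g hg c hc hgv hgf y hy z hz
    have hI := root_le_iso C _ hg
    rw [← aset_transport τ C h h hg hc hgv hgf y]
    refine ⟨c • (g⁻¹ : GL ι F).val *ᵥ z, hy _ (Submodule.smul_mem _ _ ?_), ?_⟩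
    · refine act_mem_X C h (inv_mem hI) (inv_ne_zero hc) ?_ ?_ hz
      · conv_lhs => rw [show v = c⁻¹ • g.val *ᵥ v by
          rw [hgv, smul_smul, inv_mul_cancel₀ hc, one_smul]]
        rw [Matrix.mulVec_smul, inv_act]
      · conv_lhs => rw [show f = c • g.val *ᵥ f by
          rw [hgf, smul_smul, mul_inv_cancel₀ hc, one_smul]]
        rw [Matrix.mulVec_smul, inv_act, inv_inv]
    · rw [tr_apply, Matrix.mulVec_smul, act_inv, smul_smul, inv_mul_cancel₀ hc, one_smul]
  obtain ⟨w0, hw0, hw0x⟩ := full_orbit S h hfull (hfull_g s hs t ht hsv hsf x hfull)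
  set z := (1 - t)⁻¹ • w0 with hz
  have hzX : z ∈ X B v f := Submodule.smul_mem _ _ hw0
  have h1t : (1 : F) - t ≠ 0 := sub_ne_zero.mpr (Ne.symm hμ1)
  set o := mv Q B (sGL Q B v z) x
  have hK : ∀ w ∈ X B v f, sGL Q B v w ∈ Root Q B ⊤ := fun w hw => sGL_mem_K C h.singE hw
  have hso : mv Q B s o = o := by
    rw [← mv_mul hs (hK z hzX), hsconj z hzX, mv_mul (hK _ (Submodule.smul_mem _ _ hzX)) hs,
      ← hw0x, ← mv_mul (hK _ (Submodule.smul_mem _ _ hzX)) (hK _ hw0),
      sGL_mul C h.singE (by rw [map_smul, X.left hzX, smul_zero]) (X.left hw0)]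
    congr 2
    rw [hz, smul_smul]
    match_scalars
    field_simp
    ring
  have hofull : ∀ y ∈ X B v f, y ∈ aset τ Q B v f o := by
    rw [aset_mv τ C h.singE hzX]; exact hfull
  -- the root group of the parameter space fixes `o`
  have hroot : ∀ g ∈ Root Q B (X B v f), g ∈ Stab Q B o := by
    intro g hg
    have hgK : g ∈ Root Q B ⊤ := root_mono le_top hg
    obtain ⟨hgv, hgf⟩ := root_fix C h hg
    have hcomm : s * g = g * s := gl_ext fun y => by
      rw [show y = (y - B f y • v - B v y • f) + B f y • v + B v y • f by abel]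
      have hyX : y - B f y • v - B v y • f ∈ X B v f := h.proj C trivial
      simp only [mul_act, Matrix.mulVec_add, Matrix.mulVec_smul, hgv, hgf, hsv, hsf,
        hsX _ hyX, hsX _ (root_mem_U C hg hyX)]
    obtain ⟨w, hw, hwo⟩ := full_orbit S h hofull (hfull_g g hgK 1 one_ne_zero
      (by rw [hgv, one_smul]) (by rw [hgf, inv_one, one_smul]) o hofull)
    have h1 : mv Q B s (mv Q B g o) = mv Q B g o := by
      rw [← mv_mul hs hgK, hcomm, mv_mul hgK hs, hso]
    rw [← hwo, ← mv_mul hs (hK w hw), hsconj w hw,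
      mv_mul (hK _ (Submodule.smul_mem _ _ hw)) hs, hso] at h1
    have h2 : mv Q B (sGL Q B v (t • w - w)) o = o := by
      rw [show t • w - w = -w + t • w by abel,
        ← sGL_mul C h.singE (by rw [map_neg, X.left hw, neg_zero])
          (by rw [map_smul, X.left hw, smul_zero]),
        mv_mul (hK _ (Submodule.neg_mem _ hw)) (hK _ (Submodule.smul_mem _ _ hw)), h1,
        ← sGL_inv C h.singE (X.left hw), mv_inv (hK w hw)]
    have hwX : t • w - w ∈ X B v f := Submodule.sub_mem _ (Submodule.smul_mem _ _ hw) hw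
    have h3 := full_sset S.toBase h hofull hwX ((mem_Stab (hK _ hwX)).mpr h2)
    have hw00 : w = 0 := by
      rw [show t • w - w = (t - 1) • w by rw [sub_smul, one_smul], smul_eq_zero] at h3
      exact h3.resolve_left (sub_ne_zero.mpr hμ1)
    rw [mem_Stab hgK, ← hwo, hw00, sGL_zero_right C h.singE, mv_one]
  have hnov : ∀ u ∈ X B v f, Q u = 0 → sGL Q B u v ∈ Stab Q B o → u = 0 := by
    intro u hu hQu hm
    rw [sGL_swap C hQu h.singE (by rw [C.symm]; exact X.left hu)] at hm
    exact neg_eq_zero.mp (full_sset S.toBase h hofull (Submodule.neg_mem _ hu) hm)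
  -- the centre at `f`
  have hsingf : ∀ u ∈ X B v f, Q u = 0 → u ≠ 0 → ∀ c : F, sGL Q B u (c • f) ∈ Stab Q B o := by
    intro u hu hQu hu0 c
    obtain ⟨u', hH⟩ := exists_hyp C hX hu hu0 hQu
    have h' : Hyp Q B ⊤ u u' := Hyp.mono C hH le_top
    have hfu : B u f = 0 := by rw [C.symm]; exact X.right hu
    have hfu' : B u' f = 0 := by rw [C.symm]; exact X.right hH.memF
    have hvu : B u v = 0 := by rw [C.symm]; exact X.left hu
    have hvu' : B u' v = 0 := by rw [C.symm]; exact X.left hH.memF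
    have hperp : ∀ a ∈ aset τ Q B u u' o, ∀ w ∈ perp2 B (X B v f) u u', B a w = 0 :=
      fun a ha w hw => perp_of_subset τ C S.tau (U := perp2 B (X B v f) u u') (fun w hw =>
        ⟨mem_X.mpr (mem_perp2.mp hw).2,
          hroot _ (sGL_mem_root hu (mem_perp2.mp hw).1 hQu (mem_perp2.mp hw).2.1)⟩) ha hw
    have hspan : ∀ a ∈ aset τ Q B u u' o, a = B f a • v + B v a • f := by
      intro a ha
      have haX := aset_le τ ha
      have hdX : a - B f a • v - B v a • f ∈ perp2 B (X B v f) u u' := mem_perp2.mpr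
        ⟨h.proj C trivial, by simp [X.left haX, hvu, hfu], by simp [X.right haX, hvu', hfu']⟩
      have h0 : a - B f a • v - B v a • f = 0 := by
        refine (hH.ndeg C hX) _ hdX fun y hy => ?_
        obtain ⟨hyX, -, -⟩ := mem_perp2.mp hy
        rw [map_sub, map_sub, LinearMap.sub_apply, LinearMap.sub_apply, map_smul, map_smul,
          LinearMap.smul_apply, LinearMap.smul_apply, hperp a ha y hy, X.left hyX, X.right hyX]
        simp
      rw [sub_sub, sub_eq_zero] at h0
      exact h0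
    have hd : ∃ d ∈ X B v f, d ∈ perp2 B (X B v f) u u' ∧ d ≠ 0 := by
      have hfr := finrank_step C hH
      obtain ⟨d, hd, hd0⟩ := Submodule.exists_mem_ne_zero_of_ne_bot
        (p := perp2 B (X B v f) u u') (fun hb => by rw [hb, finrank_bot] at hfr; omega)
      exact ⟨d, (mem_perp2.mp hd).1, hd, hd0⟩
    have hsing : ∀ a ∈ aset τ Q B u u' o, Q a = 0 := by
      by_contra hne
      push Not at hne
      obtain ⟨a, ha, hQa⟩ := hne
      obtain ⟨g, hg, hgv, hgf⟩ := exists_frame_map C h5 h h'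
      have hx' : ∀ z ∈ X B u u', z ∈ aset τ Q B u u' (mv Q B g o) := by
        intro z hz
        have hI := root_le_iso C _ hg
        rw [← aset_transport τ C h h' hg one_ne_zero (by rw [hgv, one_smul])
          (by rw [hgf, inv_one, one_smul]) o]
        refine ⟨(g⁻¹ : GL ι F).val *ᵥ z, hofull _ ?_, by
          rw [tr_apply, act_inv, inv_one, one_smul]⟩
        refine act_mem_X C h' (inv_mem hI) one_ne_zero ?_ ?_ hz
        · rw [← hgv, inv_act, one_smul]
        · rw [← hgf, inv_act, inv_one, one_smul]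
      have hall := full_of_nonsing S h' hx' ha hQa
      obtain ⟨d, hdX, hdP, hd0⟩ := hd
      have hduu : d ∈ X B u u' := mem_X.mpr (mem_perp2.mp hdP).2
      have := hspan d (hall d hduu)
      rw [X.left hdX, X.right hdX, zero_smul, zero_smul, add_zero] at this
      exact hd0 this
    have hsplit : ∀ a ∈ aset τ Q B u u' o, B f a = 0 ∨ B v a = 0 := fun a ha => by
      have h1 := hsing a ha
      rw [hspan a ha, C.smul_add, h.singE, h.singF, h.pair] at h1
      simpa using h1
    have hmem : ∀ z ∈ X B u u', (∀ a ∈ aset τ Q B u u' o, B a z = 0) →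
        sGL Q B u z ∈ Stab Q B o := fun z hz hza =>
      mem_sset_of_ann τ C S.tau h' hz fun a ha => by rw [hza a ha, map_zero]
    have hvX' : v ∈ X B u u' := mem_X.mpr ⟨hvu, hvu'⟩
    have hfX' : f ∈ X B u u' := mem_X.mpr ⟨hfu, hfu'⟩
    by_cases hall : ∀ a ∈ aset τ Q B u u' o, B f a = 0
    · refine hmem _ (Submodule.smul_mem _ _ hfX') fun a ha => ?_
      rw [map_smul, C.symm, hall a ha, smul_zero]
    push Not at hall
    obtain ⟨a₀, ha₀, hfa₀⟩ := hall
    have hva : ∀ a ∈ aset τ Q B u u' o, B v a = 0 := fun a ha => by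
      by_contra hva
      have h1 := (hsplit a ha).resolve_right hva
      have h2 := (hsplit a₀ ha₀).resolve_left hfa₀
      rcases hsplit _ (add_mem ha ha₀) with h3 | h3
      · rw [map_add, h1, zero_add] at h3; exact hfa₀ h3
      · rw [map_add, h2, add_zero] at h3; exact hva h3
    exact absurd (hnov u hu hQu (hmem v hvX' fun a ha => by rw [C.symm]; exact hva a ha)) hu0
  have hCf : Centre Q B (Stab Q B o) f := by
    intro a hfa
    have hmemX : a - B v a • f ∈ X B v f :=
      mem_X.mpr ⟨by simp [h.pair], by simp [hfa, C.self_zero h.singF]⟩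
    let P : Submodule F (ι → F) :=
      { carrier := {w | B f w = 0 ∧ ∀ c : F, sGL Q B f (c • w) ∈ Stab Q B o}
        zero_mem' := ⟨map_zero _, fun c => by
          rw [smul_zero, sGL_zero_right C h.singF]; exact one_mem _⟩
        add_mem' := fun {w w'} hw hw' => ⟨by rw [map_add, hw.1, hw'.1, add_zero], fun c => by
          rw [smul_add, ← sGL_mul C h.singF (by rw [map_smul, hw.1, smul_zero])
            (by rw [map_smul, hw'.1, smul_zero])]
          exact mul_mem (hw.2 c) (hw'.2 c)⟩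
        smul_mem' := fun d w hw => ⟨by rw [map_smul, hw.1, smul_zero], fun c => by
          rw [smul_smul]; exact hw.2 _⟩ }
    have hle : X B v f ≤ P := by
      refine (span_sing C hX hX3).trans (Submodule.span_le.mpr ?_)
      rintro w ⟨hw, hQw⟩
      refine ⟨X.right hw, fun c => ?_⟩
      by_cases hw0 : w = 0
      · rw [hw0, smul_zero, sGL_zero_right C h.singF]; exact one_mem _
      have hQcw : Q (c • w) = 0 := by rw [C.smul, hQw, mul_zero]
      rw [sGL_swap C h.singF hQcw (by rw [map_smul, X.right hw, smul_zero]),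
        sGL_smul C hQw (by rw [map_neg, C.symm, X.right hw, neg_zero]), smul_neg, ← neg_smul]
      exact hsingf w hw hQw hw0 _
    have := (hle hmemX).2 1
    rwa [one_smul, show a - B v a • f = a + (-(B v a)) • f by rw [neg_smul, sub_eq_add_neg],
      sGL_add_self C h.singF hfa] at this
  have hHI : Stab Q B o ≤ isometryGroup F Q := (Stab_le o).trans (root_le_iso C _)
  refine lines_le C h5 (o := o) (Hyp.ne_zero C h).2 h.singF fun g hg => ?_
  set u := g.val *ᵥ f with hu
  have hQu : Q u = 0 := by rw [hu, mem_iso.mp (hHI hg), h.singF]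
  have hCu : Centre Q B (Stab Q B o) u := centre_act C hHI h.singF hg hCf
  by_cases hfu : B f u ≠ 0
  · exfalso
    have htop : Root Q B ⊤ ≤ Stab Q B o := by
      rw [← omegaGL_eq C h5]
      exact omega_le_of_two C h5 hHI h.singF hQu hfu hCf hCu
    obtain ⟨w, hw, hw0⟩ := Submodule.exists_mem_ne_zero_of_ne_bot
      (p := X B v f) (fun hb => by rw [hb, finrank_bot] at hX3; omega)
    exact hw0 (full_sset S.toBase h hofull hw (htop (hK w hw)))
  push Not at hfu
  set x' := u - B v u • f with hx'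
  have hx'X : x' ∈ X B v f :=
    mem_X.mpr ⟨by simp [hx', h.pair], by simp [hx', hfu, C.self_zero h.singF]⟩
  by_cases hx0 : x' = 0
  · rw [sub_eq_zero.mp hx0]
    exact Submodule.smul_mem _ _ (Submodule.mem_span_singleton_self f)
  exfalso
  obtain ⟨w, hwX, hwx⟩ : ∃ w ∈ X B v f, B w x' = B v u := by
    obtain ⟨y, hy, hy0⟩ : ∃ y ∈ X B v f, B x' y ≠ 0 := by
      by_contra hne
      push Not at hne
      exact hx0 (hX x' hx'X hne)
    refine ⟨(B v u * (B x' y)⁻¹) • y, Submodule.smul_mem _ _ hy, ?_⟩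
    rw [map_smul, LinearMap.smul_apply, smul_eq_mul, C.symm y, mul_assoc, inv_mul_cancel₀ hy0,
      mul_one]
  have hu' : u = x' + B v u • f := by rw [hx']; abel
  have hgu : (sGL Q B f w).val *ᵥ u = x' := by
    rw [sGL_act C h.singF (X.right hwX), hfu]
    have hwu : B w u = B v u := by
      conv_lhs => rw [hu', map_add, map_smul, hwx, C.symm w f, X.right hwX]
      simp
    rw [hwu]
    simp [hx']
  have hCx := centre_act C hHI hQu (hCf w (X.right hwX)) hCu
  rw [hgu] at hCx
  have hQx' : Q x' = 0 := by rw [← hgu, mem_iso.mp (sGL_mem C h.singF (X.right hwX)), hQu]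
  exact hx0 (hnov x' hx'X hQx' (hCx v (by rw [C.symm]; exact X.left hx'X)))

end

end Cfsg.Lib.Linear.MinIndexOrth
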