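import Cfsg.Agent.Lib.Linear.MinIndexOrth.Action

/-!
# Counting the annihilators at a frame
-/

set_option autoImplicit false

namespace Cfsg.Lib.Linear.MinIndexOrth

open Module Cfsg.Lib.Linear.Orth
open scoped Matrix

noncomputable section

variable {ι : Type} [Fintype ι] [DecidableEq ι] {F : Type*} [Field F] [Finite F]
  {Q : (ι → F) → F} {B : LinearMap.BilinForm F (ι → F)} {p : ℕ} [Fact p.Prime]
  {τ : F →+ ZMod p} {α : Type*} [MulAction ↥(Root Q B ⊤) α]

/-- A space of dimension at least seven with a non-trivial additive map on the scalars. -/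
structure Base (Q : (ι → F) → F) (B : LinearMap.BilinForm F (ι → F)) (τ : F →+ ZMod p) :
    Prop where
  space : Space Q B
  n7 : 7 ≤ Fintype.card ι
  tau : τ ≠ 0

/-- An action of `Ω` on fewer points than there are singular lines, roughly. -/
structure Setup (Q : (ι → F) → F) (B : LinearMap.BilinForm F (ι → F)) (τ : F →+ ZMod p)
    (α : Type*) : Prop extends Base Q B τ where
  q4 : 4 ≤ Nat.card F
  small : (Nat.card F - 1) * Nat.card α <
    Nat.card F ^ (Fintype.card ι - 1) + Nat.card F ^ (Fintype.card ι - 4)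

theorem mem_asets [Fintype α] {v f : ι → F} {A : AddSubgroup (ι → F)} :
    A ∈ asets (α := α) τ Q B v f ↔ ∃ x : α, aset τ Q B v f x = A := by
  classical
  simp [asets]

section

variable (S : Base Q B τ) {v f : ι → F} (h : Hyp Q B ⊤ v f)

include S

theorem Base.finrank_X (h : Hyp Q B ⊤ v f) :
    ∃ j, Fintype.card ι = j + 7 ∧ finrank F (X B v f) = j + 5 := by
  have := MinIndexOrth.finrank_X S.space h
  have := S.n7
  exact ⟨Fintype.card ι - 7, by omega, by omega⟩

theorem Base.prime_dvd : p ∣ Nat.card F := by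
  have := charP_of_hom S.tau
  have := Fintype.ofFinite F
  obtain ⟨n, hp, hn⟩ := FiniteField.card F p
  rw [Nat.card_eq_fintype_card, hn]
  exact dvd_pow_self p n.ne_zero

include h

variable [Fintype α]

/-- The annihilators at a frame have total size at most the number of points. -/
theorem sum_card_le {T : Finset (AddSubgroup (ι → F))} (hT : T ⊆ asets (α := α) τ Q B v f) :
    ∑ A ∈ T, Nat.card ↥A ≤ Nat.card α := by
  classical
  rw [Nat.card_eq_fintype_card, ← Finset.card_univ,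
    Finset.card_eq_sum_card_fiberwise (f := fun x : α => aset τ Q B v f x)
      (t := asets (α := α) τ Q B v f)
      (fun x _ => mem_asets.mpr ⟨x, rfl⟩)]
  refine (Finset.sum_le_sum fun A hA => ?_).trans
    (Finset.sum_le_sum_of_subset hT)
  obtain ⟨x, rfl⟩ := mem_asets.mp (hT hA)
  exact card_le_fibre τ S.space S.tau h x

open scoped Classical in
/-- Double counting for a covering by annihilators. -/
theorem cover_le {T : Finset (AddSubgroup (ι → F))} {Cs : Finset (ι → F)} {k s : ℕ}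
    (hk : ∀ c ∈ Cs, k ≤ (T.filter fun A => c ∈ A).card)
    (hs : ∀ A ∈ T, (Cs.filter fun c => c ∈ A).card ≤ s) : k * Cs.card ≤ T.card * s := by
  classical
  calc k * Cs.card = Cs.card • k := by rw [smul_eq_mul, mul_comm]
    _ ≤ ∑ c ∈ Cs, (T.filter fun A => c ∈ A).card := Finset.card_nsmul_le_sum _ _ _ hk
    _ = ∑ A ∈ T, (Cs.filter fun c => c ∈ A).card :=
      Finset.sum_card_bipartiteAbove_eq_sum_card_bipartiteBelow fun c A => c ∈ A
    _ ≤ T.card * s := by rw [← smul_eq_mul]; exact Finset.sum_le_card_nsmul _ _ _ hs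

open scoped Classical in
/-- A covering bounds the total size of the covering sets. -/
theorem cover_sum {T : Finset (AddSubgroup (ι → F))}
    {Cs : Finset (ι → F)} {k : ℕ} (hk : ∀ c ∈ Cs, k ≤ (T.filter fun A => c ∈ A).card) :
    k * Cs.card ≤ ∑ A ∈ T, Nat.card ↥A := by
  classical
  calc k * Cs.card = Cs.card • k := by rw [smul_eq_mul, mul_comm]
    _ ≤ ∑ c ∈ Cs, (T.filter fun A => c ∈ A).card := Finset.card_nsmul_le_sum _ _ _ hk
    _ = ∑ A ∈ T, (Cs.filter fun c => c ∈ A).card :=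
      Finset.sum_card_bipartiteAbove_eq_sum_card_bipartiteBelow fun c A => c ∈ A
    _ ≤ ∑ A ∈ T, Nat.card ↥A := Finset.sum_le_sum fun A _ => by
      rw [← Set.ncard_coe_finset, ← SetLike.coe_sort_coe, Nat.card_coe_set_eq]
      exact Set.ncard_le_ncard (fun c hc => (Finset.mem_filter.mp hc).2) (Set.toFinite _)

open scoped Classical in
/-- A covering bounds the number of points. -/
theorem class_le {T : Finset (AddSubgroup (ι → F))} (hT : T ⊆ asets (α := α) τ Q B v f)
    {Cs : Finset (ι → F)} {k : ℕ} (hk : ∀ c ∈ Cs, k ≤ (T.filter fun A => c ∈ A).card) :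
    k * Cs.card ≤ Nat.card α :=
  (cover_sum S h hk).trans (sum_card_le S h hT)

omit [Finite F] in
/-- The property `P` is kept by the maps induced by elements scaling the frame. -/
def Invariant (Q : (ι → F) → F) (B : LinearMap.BilinForm F (ι → F)) (v f : ι → F)
    (P : AddSubgroup (ι → F) → Prop) : Prop :=
  ∀ (g : GL ι F) (c : F), g ∈ Root Q B ⊤ → c ≠ 0 → g.val *ᵥ v = c • v →
    g.val *ᵥ f = c⁻¹ • f → ∀ A, (∀ a ∈ A, a ∈ X B v f) → P A → P (A.map (tr g c))

open scoped Classical in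
/-- What happens at one vector happens at every vector of its class. -/
theorem spread {a : ι → F} (ha : a ∈ X B v f) (ha0 : a ≠ 0)
    {P : AddSubgroup (ι → F) → Prop} (hP : Invariant Q B v f P) {c : ι → F}
    (hc : c ∈ cls Q (X B v f) a) :
    ((asets (α := α) τ Q B v f).filter fun A => a ∈ A ∧ P A).card ≤
      ((asets (α := α) τ Q B v f).filter fun A => c ∈ A ∧ P A).card := by
  classical
  obtain ⟨hcX, hc0, t, ht, hQ⟩ := hc
  obtain ⟨g, hg, hgv, hgf, hga⟩ := exists_class_map S.space (by have := S.n7; omega) h S.n7 ha hcX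
    ha0 hc0 ht hQ
  have hgf' : g.val *ᵥ f = t⁻¹⁻¹ • f := by rw [inv_inv]; exact hgf
  refine Finset.card_le_card_of_injOn (fun A => A.map (tr g t⁻¹)) (fun A hA => ?_)
    ((AddSubgroup.map_injective (tr_injective g (inv_ne_zero ht))).injOn)
  obtain ⟨hA, haA, hPA⟩ := Finset.mem_filter.mp hA
  obtain ⟨x, rfl⟩ := mem_asets.mp hA
  refine Finset.mem_filter.mpr ⟨mem_asets.mpr ⟨mv Q B g x,
    (aset_transport τ S.space h h hg (inv_ne_zero ht) hgv hgf' x).symm⟩,
    ⟨a, haA, by rw [tr_apply, inv_inv, hga]⟩,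
    hP g t⁻¹ hg (inv_ne_zero ht) hgv hgf' _ (fun b hb => aset_le τ hb) hPA⟩

omit [Fintype α] in
/-- The size of the class of a non-singular vector. -/
theorem cls_bound {a : ι → F} (ha : Q a ≠ 0) {j : ℕ} (hj : Fintype.card ι = j + 7) :
    (Nat.card F - 1) * (Nat.card F ^ (j + 2) * (Nat.card F ^ 2 - 1)) ≤
        2 * (cls Q (X B v f) a).ncard ∧
      ((2 : F) = 0 → (Nat.card F - 1) * (Nat.card F ^ (j + 2) * (Nat.card F ^ 2 - 1)) ≤
        (cls Q (X B v f) a).ncard) :=
  cls_lower S.space ha fun c => level_lower S.space (X_ndeg S.space h)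
    (by have := MinIndexOrth.finrank_X S.space h; omega) c

end

/-- Either the characteristic is two or there are at least five elements. -/
theorem Setup.two_or_five (S : Setup Q B τ α) : (2 : F) = 0 ∨ 5 ≤ Nat.card F := by
  have hdvd := S.prime_dvd
  have hq := S.q4
  by_cases h5 : 5 ≤ Nat.card F
  · exact Or.inr h5
  refine Or.inl ?_
  have h4 : Nat.card F = 4 := by omega
  rw [h4] at hdvd
  have hp : p = 2 := by
    have hle := Nat.le_of_dvd (by norm_num) hdvd
    have := (Fact.out : p.Prime).two_le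
    interval_cases p <;> first
      | rfl
      | omega
      | exact absurd (Fact.out : Nat.Prime 4) (by norm_num)
  have := charP_of_hom S.tau
  have := CharP.cast_eq_zero F p
  rw [hp] at this
  exact_mod_cast this

variable {v f : ι → F}

/-- The class of a non-singular vector cannot be covered too often. -/
theorem cls_contra (S : Setup Q B τ α) (h : Hyp Q B ⊤ v f) {a : ι → F} (ha : Q a ≠ 0) {k : ℕ}
    (hk : k * (cls Q (X B v f) a).ncard ≤ Nat.card α)
    (hk2 : ((2 : F) = 0 ∧ 2 ≤ k) ∨ (6 ≤ Nat.card F ∧ 3 ≤ k) ∨ (5 ≤ Nat.card F ∧ 5 ≤ k)) :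
    False := by
  obtain ⟨j, hj, -⟩ := S.finrank_X h
  obtain ⟨hodd, heven⟩ := cls_bound S.toBase h ha hj
  have hs := S.small
  rw [hj, show j + 7 - 1 = (j + 2) + 4 by omega, show j + 7 - 4 = (j + 2) + 1 by omega] at hs
  have hq := S.q4
  set c := (cls Q (X B v f) a).ncard
  set N := Nat.card α
  obtain ⟨q, hq'⟩ : ∃ q, Nat.card F = q + 1 := ⟨Nat.card F - 1, by omega⟩
  simp only [hq', Nat.add_sub_cancel] at *
  rw [pow_add _ (j + 2) 4, pow_add _ (j + 2) 1] at hs
  set M := (q + 1) ^ (j + 2)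
  have hsq : (q + 1) ^ 2 - 1 = q * (q + 2) := by
    rw [show (q + 1) ^ 2 = q * (q + 2) + 1 by ring, Nat.add_sub_cancel]
  rw [hsq] at hodd heven
  have h1 : q * (k * c) ≤ q * N := Nat.mul_le_mul_left q hk
  rcases hk2 with ⟨h2, hk2⟩ | ⟨h6, hk2⟩ | ⟨h5, hk2⟩
  · have h3 := Nat.mul_le_mul (Nat.mul_le_mul_left q hk2) (heven h2)
    have h4 : M * ((q + 1) ^ 4 + (q + 1)) ≤ 2 * q * (q * (M * (q * (q + 2)))) := by
      rw [show 2 * q * (q * (M * (q * (q + 2)))) = M * (2 * q ^ 3 * (q + 2)) by ring]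
      refine Nat.mul_le_mul_left M ?_
      obtain ⟨r, rfl⟩ : ∃ r, q = r + 3 := ⟨q - 3, by omega⟩
      ring_nf
      nlinarith [Nat.zero_le r, Nat.zero_le (r ^ 2), Nat.zero_le (r ^ 3), Nat.zero_le (r ^ 4)]
    nlinarith
  · have h3 := Nat.mul_le_mul (Nat.mul_le_mul_left q hk2) hodd
    have h4 : 2 * (M * ((q + 1) ^ 4 + (q + 1))) ≤ q * 3 * (q * (M * (q * (q + 2)))) := by
      rw [show q * 3 * (q * (M * (q * (q + 2)))) = M * (3 * q ^ 3 * (q + 2)) by ring,
        show 2 * (M * ((q + 1) ^ 4 + (q + 1))) = M * (2 * ((q + 1) ^ 4 + (q + 1))) by ring]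
      refine Nat.mul_le_mul_left M ?_
      obtain ⟨r, rfl⟩ : ∃ r, q = r + 5 := ⟨q - 5, by omega⟩
      ring_nf
      nlinarith [Nat.zero_le r, Nat.zero_le (r ^ 2), Nat.zero_le (r ^ 3), Nat.zero_le (r ^ 4)]
    nlinarith
  · have h3 := Nat.mul_le_mul (Nat.mul_le_mul_left q hk2) hodd
    have h4 : 2 * (M * ((q + 1) ^ 4 + (q + 1))) ≤ q * 5 * (q * (M * (q * (q + 2)))) := by
      rw [show q * 5 * (q * (M * (q * (q + 2)))) = M * (5 * q ^ 3 * (q + 2)) by ring,
        show 2 * (M * ((q + 1) ^ 4 + (q + 1))) = M * (2 * ((q + 1) ^ 4 + (q + 1))) by ring]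
      refine Nat.mul_le_mul_left M ?_
      obtain ⟨r, rfl⟩ : ∃ r, q = r + 4 := ⟨q - 4, by omega⟩
      ring_nf
      nlinarith [Nat.zero_le r, Nat.zero_le (r ^ 2), Nat.zero_le (r ^ 3), Nat.zero_le (r ^ 4)]
    nlinarith

end

end Cfsg.Lib.Linear.MinIndexOrth
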