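import Cfsg.Agent.Lib.Linear.MinIndexOrth.Singular

/-!
# The shape of an annihilator inside no line
-/

set_option autoImplicit false

namespace Cfsg.Lib.Linear.MinIndexOrth

open Module Cfsg.Lib.Linear.Orth
open scoped Matrix

noncomputable section

variable {ι : Type} [Fintype ι] [DecidableEq ι] {F : Type*} [Field F] [Finite F]
  {Q : (ι → F) → F} {B : LinearMap.BilinForm F (ι → F)} {p : ℕ} [Fact p.Prime]
  {τ : F →+ ZMod p} {α : Type*} [MulAction ↥(Root Q B ⊤) α]

/-- `A` lies in no line. -/
def NonLine (A : AddSubgroup (ι → F)) : Prop := ∀ u, ∃ a ∈ A, a ∉ Submodule.span F {u}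

omit [Finite F] in
theorem nonLine_map {A : AddSubgroup (ι → F)} (hA : NonLine A) (g : GL ι F) {c : F} (hc : c ≠ 0) :
    NonLine (A.map (tr g c)) := fun u => by
  obtain ⟨a, ha, hau⟩ := hA ((g⁻¹ : GL ι F).val *ᵥ u)
  refine ⟨_, ⟨a, ha, rfl⟩, fun hm => hau ?_⟩
  obtain ⟨t, ht⟩ := Submodule.mem_span_singleton.mp hm
  refine Submodule.mem_span_singleton.mpr ⟨c * t, ?_⟩
  rw [tr_apply] at ht
  rw [← Matrix.mulVec_smul, ← smul_smul, ht, smul_smul, mul_inv_cancel₀ hc, one_smul, inv_act]

omit [Finite F] in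
theorem invariant_nonLine (v f : ι → F) : Invariant Q B v f (NonLine (ι := ι) (F := F)) :=
  fun g _ _ hc _ _ _ _ hA => nonLine_map hA g hc

section

variable [Fintype α] (S : Base Q B τ) {v f : ι → F} (h : Hyp Q B ⊤ v f)

include S h

open scoped Classical in
/-- Movers fixing `a` with different images of the span give distinct annihilators through `a`. -/
theorem members_le {x : α} {a : ι → F} (ha : a ∈ aset τ Q B v f x) {P : AddSubgroup (ι → F) → Prop}
    (hP : Invariant Q B v f P) (hPA : P (aset τ Q B v f x)) {R : Finset (GL ι F)}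
    (hR : ∀ g ∈ R, g ∈ Root Q B (X B v f) ∧ g.val *ᵥ a = a)
    (hinj : Set.InjOn (fun g : GL ι F => (aset τ Q B v f x).map (tr g 1)) R) :
    R.card ≤ ((asets (α := α) τ Q B v f).filter fun A => a ∈ A ∧ P A).card := by
  classical
  refine Finset.card_le_card_of_injOn _ (fun g hg => ?_) hinj
  obtain ⟨hgX, hga⟩ := hR g hg
  obtain ⟨hgv, hgf⟩ := root_fix S.space h hgX
  have hgK : g ∈ Root Q B ⊤ := root_mono le_top hgX
  refine Finset.mem_filter.mpr ⟨mem_asets.mpr ⟨mv Q B g x,
    (aset_fix τ S.space h hgK hgv hgf x).symm⟩,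
    ⟨a, ha, by rw [tr_apply, inv_one, one_smul, hga]⟩,
    hP g 1 hgK one_ne_zero (by rw [hgv, one_smul]) (by rw [hgf, inv_one, one_smul]) _
      (fun b hb => aset_le τ hb) hPA⟩

omit [Fintype α] in
/-- A partner for `w` perpendicular to `a`. -/
theorem exists_partner {W : Submodule F (ι → F)} (hWX : W ≤ X B v f) (hWQ : ∀ y ∈ W, Q y = 0)
    (hW : ∀ y ∈ W, ∀ z ∈ W, B y z = 0) {a w : ι → F} (ha : a ∈ W) (hw : w ∈ W)
    (hwa : w ∉ Submodule.span F {a}) :
    ∃ b ∈ X B v f, Q b = 0 ∧ B b a = 0 ∧ B b w = 1 := by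
  have C := S.space
  obtain ⟨y, hy, hwy⟩ := C.exists_perp hwa
  set y' := y - B f y • v - B v y • f with hy'
  have hy'X : y' ∈ X B v f := h.proj C trivial
  have hay' : B y' a = 0 := by
    rw [C.symm, hy']
    simp [hy a (Submodule.mem_span_singleton_self a), C.symm a v, X.left (hWX ha), C.symm a f,
      X.right (hWX ha)]
  have hwy' : B y' w = 1 := by
    rw [C.symm, hy']
    simp [hwy, C.symm w v, X.left (hWX hw), C.symm w f, X.right (hWX hw)]
  refine ⟨y' - Q y' • w, Submodule.sub_mem _ hy'X (Submodule.smul_mem _ _ (hWX hw)), ?_, ?_, ?_⟩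
  · rw [sub_eq_add_neg, ← neg_smul, C.add, C.smul, hWQ w hw, map_smul, hwy']
    simp
  · simp [hay', hW w hw a ha]
  · simp [hwy', C.self_zero (hWQ w hw)]

end

variable [Fintype α] (S : Setup Q B τ α) {v f : ι → F} (h : Hyp Q B ⊤ v f)

include S h

open scoped Classical in
/-- A singular vector lies in fewer than `q + 2` annihilators. -/
theorem members_lt {x : α} {a : ι → F} (ha : a ∈ aset τ Q B v f x) (ha0 : a ≠ 0) (hQa : Q a = 0)
    {P : AddSubgroup (ι → F) → Prop} (hP : Invariant Q B v f P) :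
    ((asets (α := α) τ Q B v f).filter fun A => a ∈ A ∧ P A).card < Nat.card F + 2 := by
  classical
  by_contra hk
  push Not at hk
  set k := ((asets (α := α) τ Q B v f).filter fun A => a ∈ A ∧ P A).card
  have hcov := class_le S.toBase h (T := asets (α := α) τ Q B v f) subset_rfl
    (Cs := (cls Q (X B v f) a).toFinite.toFinset) (k := k) fun c hc => by
      refine (spread (α := α) S.toBase h (aset_le τ ha) ha0 hP ((Set.Finite.mem_toFinset _).mp hc)).trans
        (Finset.card_le_card fun A hA => ?_)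
      simp only [Finset.mem_filter] at hA ⊢
      exact ⟨hA.1, hA.2.1⟩
  rw [← Set.ncard_eq_toFinset_card] at hcov
  exact singular_contra S h hQa hk hcov

/-- An annihilator inside no line is a maximal totally singular subspace in dimension 7 or 8. -/
theorem nonline_shape {x : α} (hsing : ∀ a ∈ aset τ Q B v f x, Q a = 0)
    (hnl : NonLine (aset τ Q B v f x)) :
    ((Fintype.card ι = 7 ∧ finrank F ↥(spanA (aset τ Q B v f x)) = 2) ∨
      (Fintype.card ι = 8 ∧ finrank F ↥(spanA (aset τ Q B v f x)) = 3)) ∧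
    ∀ y ∈ spanA (aset τ Q B v f x), y ∈ aset τ Q B v f x := by
  classical
  have C := S.space
  obtain ⟨hWX, hWQ, hWB⟩ := totally_singular S.toBase h hsing
  set A := aset τ Q B v f x with hA
  set W := spanA A with hWdef
  have hAW : ∀ a ∈ A, a ∈ W := fun a ha => Submodule.subset_span ha
  have hd2 : 2 ≤ finrank F W := by
    obtain ⟨a, ha, ha0⟩ := hnl 0
    obtain ⟨w, hw, hwa⟩ := hnl a
    have ha0' : a ≠ 0 := fun h0 => ha0 (by rw [h0]; exact Submodule.zero_mem _)
    have hlt : Submodule.span F {a} < W := lt_of_le_of_ne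
      ((Submodule.span_singleton_le_iff_mem _ _).mpr (hAW a ha))
      fun he => hwa (he ▸ hAW w hw)
    have := Submodule.finrank_lt_finrank_of_lt hlt
    rw [finrank_span_singleton ha0'] at this
    omega
  have hdn := iso_dim S.toBase h hWX hWB
  have hk : ∀ a ∈ A, a ≠ 0 → ∃ R : Finset (GL ι F),
      (∀ g ∈ R, g ∈ Root Q B (X B v f) ∧ g.val *ᵥ a = a) ∧
      Set.InjOn (fun g : GL ι F => W.map (Matrix.mulVecLin g.val)) R ∧
      Nat.card F ^ (Fintype.card ι - 4) + Nat.card F ^ finrank F W ≤
        Nat.card F ^ finrank F W * R.card := by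
    intro a ha ha0
    obtain ⟨w, hw, hwa⟩ := hnl a
    obtain ⟨b, hb, hQb, hba, hbw⟩ := exists_partner S.toBase h hWX hWQ hWB (hAW a ha) (hAW w hw) hwa
    obtain ⟨R, hR1, hR2, hR3⟩ := exists_movers S.toBase h hWX hWB hWQ (hAW a ha) (hAW w hw) hb hQb hba hbw
    exact ⟨R, fun g hg => ⟨(hR3 g hg).1, (hR3 g hg).2.1⟩, hR2, hR1⟩
  have hinjA : ∀ R : Finset (GL ι F), Set.InjOn (fun g : GL ι F => W.map (Matrix.mulVecLin g.val)) R →
      Set.InjOn (fun g : GL ι F => A.map (tr g 1)) R := fun R hR g hg g' hg' he =>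
    hR hg hg' (by simp only [hWdef, ← spanA_map]; exact congrArg spanA he)
  have hq := S.q4
  have h7 := S.n7
  obtain ⟨a₀, ha₀, ha₀0⟩ := hnl 0
  have ha₀0' : a₀ ≠ 0 := fun h0 => ha₀0 (by rw [h0]; exact Submodule.zero_mem _)
  have hd : finrank F W + 1 = Fintype.card ι - 4 ∨ Fintype.card ι - 4 < finrank F W + 1 := by
    by_contra hcon
    push Not at hcon
    obtain ⟨R, hR, hinj, hcard⟩ := hk a₀ ha₀ ha₀0'
    have h1 := (members_le S.toBase h ha₀ (P := fun _ => True) (fun _ _ _ _ _ _ _ _ _ => trivial) trivial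
      hR (hinjA R hinj)).trans_lt (members_lt S h ha₀ ha₀0' (hsing a₀ ha₀)
        (fun _ _ _ _ _ _ _ _ _ => trivial))
    have h2 : Nat.card F ^ (finrank F W + 2) ≤ Nat.card F ^ (Fintype.card ι - 4) :=
      Nat.pow_le_pow_right Nat.card_pos (by omega)
    rw [pow_add] at h2
    have h3 : Nat.card F ^ finrank F W * (Nat.card F ^ 2 + 1) ≤
        Nat.card F ^ finrank F W * R.card := by linarith
    have h4 := Nat.le_of_mul_le_mul_left h3 (pow_pos Nat.card_pos _)
    nlinarith
  have hcase : (Fintype.card ι = 7 ∧ finrank F W = 2) ∨ (Fintype.card ι = 8 ∧ finrank F W = 3) := by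
    omega
  refine ⟨hcase, ?_⟩
  have hline : ∀ a ∈ A, ∀ t : F, t • a ∈ A := by
    intro a ha t
    by_cases ha0 : a = 0
    · rw [ha0, smul_zero]; exact zero_mem _
    obtain ⟨w, hw, hwa⟩ := hnl a
    obtain ⟨b, hb, hQb, hba, hbw⟩ := exists_partner S.toBase h hWX hWQ hWB (hAW a ha) (hAW w hw) hwa
    have hinv : ∀ c ∈ X B v f, B a c = 0 → A.map (tr (sGL Q B a c) 1) = A := by
      intro c hc hac
      by_contra hne
      set g₀ := sGL Q B a c
      have haX := hWX (hAW a ha)
      have hg₀ : g₀ ∈ Root Q B (X B v f) := sGL_mem_root haX hc (hsing a ha) hac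
      have hg₀a : g₀.val *ᵥ a = a := by
        rw [sGL_act C (hsing a ha) hac, C.self_zero (hsing a ha), C.symm c a, hac]; simp
      have hg₀W : W.map (Matrix.mulVecLin g₀.val) = W := by
        refine Submodule.eq_of_le_of_finrank_eq ?_
          (Submodule.equivMapOfInjective _ (act_injective g₀) W).finrank_eq.symm
        rintro _ ⟨y, hy, rfl⟩
        rw [Matrix.mulVecLin_apply, sGL_act C (hsing a ha) hac, hWB a (hAW a ha) y hy]
        simp only [zero_smul, add_zero]
        exact W.sub_mem hy (W.smul_mem _ (hAW a ha))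
      obtain ⟨R, hR, hinj, hcard⟩ := hk a ha ha0
      set R2 := R ∪ R.image (· * g₀)
      have hmap : ∀ g : GL ι F, A.map (tr (g * g₀) 1) = (A.map (tr g₀ 1)).map (tr g 1) := fun g => by
        rw [AddSubgroup.map_map]
        refine congrArg (fun φ => AddSubgroup.map φ A) (AddMonoidHom.ext fun y => ?_)
        rw [AddMonoidHom.comp_apply, tr_apply, tr_apply, tr_apply, inv_one, one_smul, one_smul,
          one_smul, mul_act]
      have hspan : ∀ g : GL ι F, spanA ((A.map (tr g₀ 1)).map (tr g 1)) =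
          W.map (Matrix.mulVecLin g.val) := fun g => by
        rw [spanA_map, spanA_map, ← hWdef, hg₀W]
      have hkey : ∀ g ∈ R, ∀ g' ∈ R, A.map (tr g 1) ≠ A.map (tr (g' * g₀) 1) := by
        intro g hg g' hg' he
        have h1 := congrArg spanA he
        rw [hmap, hspan, spanA_map, ← hWdef] at h1
        obtain rfl := hinj hg hg' h1
        rw [hmap] at he
        exact hne (AddSubgroup.map_injective (tr_injective g one_ne_zero) he).symm
      have hdisj : Disjoint R (R.image (· * g₀)) := Finset.disjoint_left.mpr fun g hg hg' => by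
        obtain ⟨y, hy, rfl⟩ := Finset.mem_image.mp hg'
        exact hkey _ hg y hy rfl
      have hinj2 : Set.InjOn (fun g : GL ι F => A.map (tr g 1)) R2 := by
        intro g hg g' hg' he
        simp only [R2, Finset.coe_union, Finset.coe_image, Set.mem_union, Finset.mem_coe,
          Set.mem_image] at hg hg'
        rcases hg with hg | ⟨y, hy, rfl⟩ <;> rcases hg' with hg' | ⟨y', hy', rfl⟩
        · exact hinjA R hinj hg hg' he
        · exact absurd he (hkey g hg y' hy')
        · exact absurd he.symm (hkey g' hg' y hy)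
        · have h1 := congrArg spanA he
          simp only [hmap, hspan] at h1
          rw [hinj hy hy' h1]
      have hR2 : ∀ g ∈ R2, g ∈ Root Q B (X B v f) ∧ g.val *ᵥ a = a := by
        intro g hg
        rcases Finset.mem_union.mp hg with hg | hg
        · exact hR g hg
        · obtain ⟨y, hy, rfl⟩ := Finset.mem_image.mp hg
          exact ⟨mul_mem (hR y hy).1 hg₀, by rw [mul_act, hg₀a, (hR y hy).2]⟩
      have h1 := (members_le S.toBase h ha (P := fun _ => True) (fun _ _ _ _ _ _ _ _ _ => trivial) trivial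
        hR2 hinj2).trans_lt (members_lt S h ha ha0 (hsing a ha)
          (fun _ _ _ _ _ _ _ _ _ => trivial))
      rw [Finset.card_union_of_disjoint hdisj,
        Finset.card_image_of_injective _ (mul_left_injective g₀)] at h1
      have h2 : Nat.card F ^ finrank F W * (Nat.card F + 1) ≤
          Nat.card F ^ finrank F W * R.card := by
        refine le_trans ?_ hcard
        rw [mul_add, mul_one, ← pow_succ]
        exact Nat.add_le_add_right (Nat.pow_le_pow_right Nat.card_pos (by omega)) _
      have h3 := Nat.le_of_mul_le_mul_left h2 (pow_pos Nat.card_pos _)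
      omega
    -- a mover in `X ∩ a^⊥` pairing with `w`
    set c := (-t) • b
    have hc : c ∈ X B v f := Submodule.smul_mem _ _ hb
    have hac : B a c = 0 := by rw [map_smul, C.symm a b, hba, smul_zero]
    have hm : (tr (sGL Q B a c) 1) w ∈ A := hinv c hc hac ▸ ⟨w, hw, rfl⟩
    rw [tr_apply, inv_one, one_smul, sGL_act C (hsing a ha) hac, hWB a (hAW a ha) w (hAW w hw),
      map_smul, LinearMap.smul_apply, hbw] at hm
    simp only [zero_smul, add_zero, mul_zero, smul_eq_mul, mul_one, neg_smul, sub_neg_eq_add] at hm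
    have := sub_mem hm hw
    rwa [add_sub_cancel_left] at this
  intro y hy
  induction hy using Submodule.span_induction with
  | mem y hy => exact hy
  | zero => exact zero_mem _
  | add y z _ _ ihy ihz => exact add_mem ihy ihz
  | smul c y _ ih => exact hline y ih c

end

end Cfsg.Lib.Linear.MinIndexOrth
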