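import Cfsg.Agent.Lib.Linear.MinIndexOrth.Regular

/-!
# Annihilators spanning totally singular subspaces

An annihilator inside no line consists of singular vectors; unless the dimension is seven or eight
and it is a maximal totally singular subspace, too many distinct annihilators pass through each of
its vectors.
-/

set_option autoImplicit false

namespace Cfsg.Lib.Linear.MinIndexOrth

open Module Cfsg.Lib.Linear.Orth
open scoped Matrix

noncomputable section

variable {ι : Type} [Fintype ι] [DecidableEq ι] {F : Type*} [Field F] [Finite F]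
  {Q : (ι → F) → F} {B : LinearMap.BilinForm F (ι → F)} {p : ℕ} [Fact p.Prime]
  {τ : F →+ ZMod p} {α : Type*} [MulAction ↥(Root Q B ⊤) α]

/-- The span of an annihilator. -/
def spanA (A : AddSubgroup (ι → F)) : Submodule F (ι → F) :=
  Submodule.span F (A : Set (ι → F))

omit [Finite F] in
theorem spanA_map (A : AddSubgroup (ι → F)) (g : GL ι F) :
    spanA (A.map (tr g 1)) = (spanA A).map (Matrix.mulVecLin g.val) := by
  rw [spanA, spanA, Submodule.map_span]
  congr 1
  ext y
  simp [tr_apply, Matrix.mulVecLin_apply]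

omit [Finite F] in
theorem cls_zero_ncard [Finite F] (C : Space Q B) (U : Submodule F (ι → F)) {a : ι → F}
    (ha : Q a = 0) : (cls Q U a).ncard + 1 = level Q U 0 := by
  have h0 : cls Q U a = {x | x ∈ U ∧ Q x = 0} \ {0} := by
    ext x
    simp only [cls, ha, mul_zero, Set.mem_setOf_eq, Set.mem_diff, Set.mem_singleton_iff]
    exact ⟨fun ⟨h1, h2, _, _, h3⟩ => ⟨⟨h1, h3⟩, h2⟩, fun ⟨⟨h1, h3⟩, h2⟩ => ⟨h1, h2, 1, one_ne_zero, h3⟩⟩
  rw [h0, level, Set.ncard_diff_singleton_add_one (show (0 : ι → F) ∈ {x | x ∈ U ∧ Q x = 0} from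
    ⟨U.zero_mem, C.zero⟩) (Set.toFinite _), ← Nat.card_coe_set_eq]
  rfl

section

variable (S : Base Q B τ) {v f : ι → F} (h : Hyp Q B ⊤ v f)

include S h

/-- Two singular-free vectors: the annihilator outside a line is totally singular. -/
theorem totally_singular {x : α} (hsing : ∀ a ∈ aset τ Q B v f x, Q a = 0) :
    spanA (aset τ Q B v f x) ≤ X B v f ∧
      (∀ y ∈ spanA (aset τ Q B v f x), Q y = 0) ∧
      ∀ y ∈ spanA (aset τ Q B v f x), ∀ z ∈ spanA (aset τ Q B v f x), B y z = 0 := by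
  have C := S.space
  set A := aset τ Q B v f x
  have hB : ∀ a ∈ A, ∀ b ∈ A, B a b = 0 := fun a ha b hb => by
    have := hsing _ (add_mem ha hb)
    rw [C.add, hsing a ha, hsing b hb] at this
    simpa using this
  have hBW : ∀ y ∈ spanA A, ∀ z ∈ spanA A, B y z = 0 := fun y hy z hz =>
    (Submodule.span_le (p := LinearMap.ker (B.flip z))).mpr
      (fun s hs => LinearMap.mem_ker.mpr ((Submodule.span_le (p := LinearMap.ker (B s))).mpr
        (fun t ht => LinearMap.mem_ker.mpr (hB s hs t ht)) hz)) hy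
  refine ⟨Submodule.span_le.mpr fun a ha => aset_le τ ha, fun y hy => ?_, hBW⟩
  induction hy using Submodule.span_induction with
  | mem y hy => exact hsing y hy
  | zero => exact C.zero
  | add y z hy hz ihy ihz => rw [C.add, ihy, ihz, hBW y hy z hz]; simp
  | smul c y _ ih => rw [C.smul, ih, mul_zero]

/-- A totally singular part of the parameter space has dimension below half of `ι`. -/
theorem iso_dim {W : Submodule F (ι → F)} (hWX : W ≤ X B v f)
    (hW : ∀ y ∈ W, ∀ z ∈ W, B y z = 0) : 2 * (finrank F W + 1) ≤ Fintype.card ι := by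
  have C := S.space
  have hiso : ∀ p ∈ W ⊔ Submodule.span F {v}, ∀ r ∈ W ⊔ Submodule.span F {v}, B p r = 0 := by
    intro p hp r hr
    obtain ⟨z, hz, s, hs, rfl⟩ := Submodule.mem_sup.mp hp
    obtain ⟨z', hz', s', hs', rfl⟩ := Submodule.mem_sup.mp hr
    obtain ⟨u, rfl⟩ := Submodule.mem_span_singleton.mp hs
    obtain ⟨u', rfl⟩ := Submodule.mem_span_singleton.mp hs'
    simp [hW z hz z' hz', X.left (hWX hz'), C.symm z v, X.left (hWX hz), C.self_zero h.singE]
  have h1 := iso_bound C hiso
  have hlt : W < W ⊔ Submodule.span F {v} := lt_of_le_of_ne le_sup_left fun he => by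
    have hvW : v ∈ W := he ▸ Submodule.mem_sup_right (Submodule.mem_span_singleton_self v)
    have := X.right (hWX hvW)
    rw [h.pair' C] at this
    exact one_ne_zero this
  have h2 := Submodule.finrank_lt_finrank_of_lt hlt
  omega

/-- Elements fixing `a` which move the span in different ways. -/
theorem exists_movers {W : Submodule F (ι → F)} (hWX : W ≤ X B v f)
    (hW : ∀ y ∈ W, ∀ z ∈ W, B y z = 0) (hWQ : ∀ y ∈ W, Q y = 0) {a w b : ι → F} (ha : a ∈ W)
    (hw : w ∈ W) (hb : b ∈ X B v f) (hQb : Q b = 0) (hba : B b a = 0) (hbw : B b w = 1) :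
    ∃ R : Finset (GL ι F),
      Nat.card F ^ (Fintype.card ι - 4) + Nat.card F ^ finrank F W ≤
          Nat.card F ^ finrank F W * R.card ∧
      Set.InjOn (fun g : GL ι F => W.map (Matrix.mulVecLin g.val)) R ∧
      ∀ g ∈ R, g ∈ Root Q B (X B v f) ∧ g.val *ᵥ a = a ∧
        (W.map (Matrix.mulVecLin g.val) = W ∨ ∃ c ∈ X B v f, B b c = 0 ∧
          c ∉ W ⊔ Submodule.span F {b} ∧
          ∀ y ∈ W, y ∈ W.map (Matrix.mulVecLin g.val) → B b y = 0 ∧ B c y = 0) := by
  classical
  have C := S.space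
  have h7 := S.n7
  have hX := X_ndeg C h
  have hdX := MinIndexOrth.finrank_X C h
  have hab : B a b = 0 := by rw [C.symm]; exact hba
  have hwb : B w b = 1 := by rw [C.symm]; exact hbw
  have hbW : b ∉ W := fun hbW => by
    have := hW b hbW w hw
    rw [hbw] at this; exact one_ne_zero this
  set Z := X B v f ⊓ LinearMap.ker (B a) ⊓ LinearMap.ker (B b) with hZ
  have hZmem : ∀ {c}, c ∈ Z ↔ c ∈ X B v f ∧ B a c = 0 ∧ B b c = 0 := fun {c} => by
    simp [hZ, and_assoc]
  set G : (ι → F) → GL ι F := fun c => sGL Q B b c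
  set Φ : (ι → F) → Submodule F (ι → F) := fun c => W.map (Matrix.mulVecLin (G c).val)
  have hact : ∀ c ∈ Z, ∀ y, (G c).val *ᵥ y = y + B b y • c - (B c y + Q c * B b y) • b :=
    fun c hc y => sGL_act C hQb (hZmem.mp hc).2.2 y
  have hGa : ∀ c ∈ Z, (G c).val *ᵥ a = a := fun c hc => by
    rw [hact c hc, hba, C.symm c a, (hZmem.mp hc).2.1]; simp
  have hGmem : ∀ c ∈ Z, G c ∈ Root Q B (X B v f) := fun c hc =>
    sGL_mem_root hb (hZmem.mp hc).1 hQb (hZmem.mp hc).2.2
  have hmeet : ∀ c ∈ Z, c ∉ W ⊔ Submodule.span F {b} → ∀ y ∈ W, y ∈ Φ c →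
      B b y = 0 ∧ B c y = 0 := by
    intro c hc hnot y hy hyc
    obtain ⟨y0, hy0, hye⟩ := Submodule.mem_map.mp hyc
    rw [Matrix.mulVecLin_apply, hact c hc] at hye
    have h1 : B b y0 = 0 := by
      by_contra hne
      refine hnot ?_
      have h2 : c = (B b y0)⁻¹ • (y - y0) + ((B b y0)⁻¹ * (B c y0 + Q c * B b y0)) • b := by
        rw [← hye]
        match_scalars <;> field_simp <;> ring
      rw [h2]
      exact Submodule.add_mem_sup (W.smul_mem _ (W.sub_mem hy hy0))
        (Submodule.smul_mem _ _ (Submodule.mem_span_singleton_self b))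
    have h2 : B c y0 = 0 := by
      by_contra hne
      refine hbW ?_
      have h3 : b = (B c y0)⁻¹ • (y0 - y) := by
        rw [← hye, h1]
        match_scalars <;> field_simp <;> ring
      rw [h3]
      exact W.smul_mem _ (W.sub_mem hy0 hy)
    rw [h1, h2] at hye
    simp at hye
    subst hye
    exact ⟨h1, h2⟩
  have hstab : ∀ c ∈ Z, c ∈ W ⊔ Submodule.span F {b} → Φ c = W := by
    intro c hc hm
    refine Submodule.eq_of_le_of_finrank_eq ?_
      (Submodule.equivMapOfInjective _ (act_injective (G c)) W).finrank_eq.symm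
    rintro _ ⟨y, hy, rfl⟩
    obtain ⟨w0, hw0, s, hs, rfl⟩ := Submodule.mem_sup.mp hm
    obtain ⟨t, rfl⟩ := Submodule.mem_span_singleton.mp hs
    have hbw0 : B b w0 = 0 := by
      have := (hZmem.mp hc).2.2
      rwa [map_add, map_smul, C.self_zero hQb, smul_zero, add_zero] at this
    rw [Matrix.mulVecLin_apply, hact _ hc, C.add, C.smul, hQb, hWQ w0 hw0, map_smul, C.symm w0 b,
      hbw0, map_add, LinearMap.add_apply, map_smul, LinearMap.smul_apply, hW w0 hw0 y hy]
    simp only [smul_zero, mul_zero, add_zero, zero_add, zero_mul, smul_eq_mul]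
    rw [show y + B b y • (w0 + t • b) - (t * B b y) • b = y + B b y • w0 by module]
    exact W.add_mem hy (W.smul_mem _ hw0)
  set 𝒮 : Finset (Submodule F (ι → F)) := (Z : Set (ι → F)).toFinite.toFinset.image Φ
  have hfib : ∀ U ∈ 𝒮, ((Z : Set (ι → F)).toFinite.toFinset.filter fun c => Φ c = U).card ≤
      Nat.card F ^ finrank F W := by
    intro U hU
    obtain ⟨c₀, hc₀, rfl⟩ := Finset.mem_image.mp hU
    replace hc₀ : c₀ ∈ Z := by simpa using hc₀
    set T := (W ⊓ LinearMap.ker (B b)) ⊔ Submodule.span F {b}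
    have hT : finrank F T ≤ finrank F W := by
      have h1 := Submodule.finrank_add_le_finrank_add_finrank (W ⊓ LinearMap.ker (B b))
        (Submodule.span F {b})
      have h2 : W ⊓ LinearMap.ker (B b) < W := lt_of_le_of_ne inf_le_left fun he => by
        have hm : w ∈ W ⊓ LinearMap.ker (B b) := by rw [he]; exact hw
        rw [Submodule.mem_inf, LinearMap.mem_ker, hbw] at hm
        exact one_ne_zero hm.2
      have h3 := Submodule.finrank_lt_finrank_of_lt h2
      have h4 : finrank F ↥(Submodule.span F {b}) ≤ 1 := by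
        simpa using finrank_span_le_card ({b} : Set (ι → F))
      change finrank F T ≤ _ at h1
      omega
    calc ((Z : Set (ι → F)).toFinite.toFinset.filter fun c => Φ c = Φ c₀).card
        ≤ (T : Set (ι → F)).toFinite.toFinset.card := by
          refine Finset.card_le_card_of_injOn (fun c => c - c₀) (fun c hc => ?_)
            (fun c _ d _ he => sub_left_injective he)
          obtain ⟨hcZ, hce⟩ := Finset.mem_filter.mp hc
          replace hcZ : c ∈ Z := by simpa using hcZ
          simp only [Set.Finite.coe_toFinset, SetLike.mem_coe]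
          have hd : c - c₀ ∈ Z := Z.sub_mem hcZ hc₀
          obtain ⟨y, hy, hye⟩ : (G c).val *ᵥ w ∈ Φ c₀ := hce ▸ Submodule.mem_map_of_mem hw
          by_contra hnot
          have hnot' : c - c₀ ∉ W ⊔ Submodule.span F {b} := fun hm => hnot (by
            obtain ⟨w0, hw0, s, hs, he⟩ := Submodule.mem_sup.mp hm
            rw [← he]
            refine Submodule.add_mem_sup (Submodule.mem_inf.mpr ⟨hw0, ?_⟩) hs
            obtain ⟨t, rfl⟩ := Submodule.mem_span_singleton.mp hs
            have h1 := (hZmem.mp hd).2.2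
            rw [← he, map_add, map_smul, C.self_zero hQb, smul_zero, add_zero] at h1
            exact LinearMap.mem_ker.mpr h1)
          have hyw : (G (c - c₀)).val *ᵥ w = y := by
            have hm : G c = G c₀ * G (c - c₀) := by
              rw [sGL_mul C hQb (hZmem.mp hc₀).2.2 (hZmem.mp hd).2.2, add_sub_cancel]
            rw [hm, mul_act, Matrix.mulVecLin_apply] at hye
            exact (act_injective (G c₀) hye).symm
          have h2 := (hmeet _ hd hnot' y hy ⟨w, hw, by rw [Matrix.mulVecLin_apply]; exact hyw⟩).1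
          rw [← hyw, hact _ hd, map_sub, map_add, map_smul, map_smul, hbw, (hZmem.mp hd).2.2,
            C.self_zero hQb] at h2
          simp at h2
      _ = Nat.card ↥T := (Nat.card_eq_card_finite_toFinset _).symm
      _ ≤ _ := by rw [card_submodule]; exact Nat.pow_le_pow_right Nat.card_pos hT
  have hcardZ : Nat.card F ^ (Fintype.card ι - 4) ≤ Nat.card F ^ finrank F W * 𝒮.card := by
    refine le_trans ?_ (Finset.card_le_mul_card_image _ _ hfib)
    rw [← Nat.card_eq_card_finite_toFinset, SetLike.coe_sort_coe, card_submodule]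
    refine Nat.pow_le_pow_right Nat.card_pos ?_
    have h1 := finrank_inf_ker_ge C (X B v f) a
    have h2 := finrank_inf_ker_ge C (X B v f ⊓ LinearMap.ker (B a)) b
    rw [← hZ] at h2
    omega
  -- one more mover, with image perpendicular to `b`
  obtain ⟨c', hc'Z, hc'w, hQc'⟩ : ∃ c' ∈ Z, B w c' = 0 ∧ Q c' ≠ 0 := by
    by_contra hne
    push Not at hne
    have hts : ∀ y ∈ Z ⊓ LinearMap.ker (B w), Q y = 0 := fun y hy => hne y hy.1 hy.2
    have hbnot : b ∉ Z ⊓ LinearMap.ker (B w) := fun hm => by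
      have := LinearMap.mem_ker.mp (Submodule.mem_inf.mp hm).2
      rw [hwb] at this; exact one_ne_zero this
    have h1 := finrank_inf_ker_ge C (X B v f) a
    have h2 := finrank_inf_ker_ge C (X B v f ⊓ LinearMap.ker (B a)) b
    have h3 := finrank_inf_ker_ge C Z w
    rw [← hZ] at h2
    set U := Z ⊓ LinearMap.ker (B w)
    have hbperp : ∀ y ∈ U, B b y = 0 := fun y hy => (hZmem.mp hy.1).2.2
    have hUb : ∀ y ∈ U ⊔ Submodule.span F {b}, Q y = 0 := by
      intro y hy
      obtain ⟨z, hz, s, hs, rfl⟩ := Submodule.mem_sup.mp hy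
      obtain ⟨t, rfl⟩ := Submodule.mem_span_singleton.mp hs
      rw [C.add, hts z hz, C.smul, hQb, map_smul, C.symm z b, hbperp z hz]; simp
    have hle : U ⊔ Submodule.span F {b} ≤ X B v f := sup_le (fun y hy => (hZmem.mp hy.1).1)
      ((Submodule.span_singleton_le_iff_mem _ _).mpr hb)
    have h4 := iso_dim S h hle (fun y hy z hz => by
      have := hUb _ (Submodule.add_mem _ hy hz)
      rw [C.add, hUb y hy, hUb z hz] at this
      simpa using this)
    have hlt : U < U ⊔ Submodule.span F {b} := lt_of_le_of_ne le_sup_left fun he =>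
      hbnot (he ▸ Submodule.mem_sup_right (Submodule.mem_span_singleton_self b))
    have h5 := Submodule.finrank_lt_finrank_of_lt hlt
    omega
  obtain ⟨hc'X, hac', hbc'⟩ := hZmem.mp hc'Z
  set l := -Q c' with hl
  have hl0 : l ≠ 0 := neg_ne_zero.mpr hQc'
  set b' := b + l • w + c' with hb'
  set u := l⁻¹ • b - w with hu
  have hQb' : Q b' = 0 := by
    rw [hb', C.add, C.add, C.smul, hQb, hWQ w hw, map_add, LinearMap.add_apply, map_smul, map_smul,
      LinearMap.smul_apply, hbw, hbc', hc'w, hl]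
    simp
  have hb'X : b' ∈ X B v f :=
    Submodule.add_mem _ (Submodule.add_mem _ hb (Submodule.smul_mem _ _ (hWX hw))) hc'X
  have huX : u ∈ X B v f := Submodule.sub_mem _ (Submodule.smul_mem _ _ hb) (hWX hw)
  have hb'u : B b' u = 0 := by
    simp [hb', hu, C.self_zero hQb, C.self_zero (hWQ w hw), hbw, hwb, C.symm c' b, hbc',
      C.symm c' w, hc'w, hl0]
  set ge := sGL Q B b' u
  have hge : ∀ y, ge.val *ᵥ y = y + B b' y • u - (B u y + Q u * B b' y) • b' :=
    fun y => sGL_act C hQb' hb'u y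
  have hQu : Q u = -l⁻¹ := by
    rw [hu, sub_eq_add_neg, C.add, C.neg, C.smul, hQb, hWQ w hw, map_neg, map_smul,
      LinearMap.smul_apply, hbw]
    simp
  have hgea : ge.val *ᵥ a = a := by
    have h1 : B b' a = 0 := by simp [hb', hba, hW w hw a ha, C.symm c' a, hac']
    have h2 : B u a = 0 := by simp [hu, hba, hW w hw a ha]
    rw [hge, h1, h2]; simp
  have hgew : ge.val *ᵥ w = l⁻¹ • b := by
    have h1 : B b' w = 1 := by simp [hb', hbw, C.self_zero (hWQ w hw), C.symm c' w, hc'w]
    have h2 : B u w = l⁻¹ := by simp [hu, hbw, C.self_zero (hWQ w hw)]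
    rw [hge, h1, h2, hQu, hu]
    simp
  set Φe := W.map (Matrix.mulVecLin ge.val)
  have hgeperp : ∀ z ∈ Φe, B b z = 0 := by
    rintro _ ⟨y, hy, rfl⟩
    rw [Matrix.mulVecLin_apply]
    have h1 := C.B_act (root_le_iso C _ (sGL_mem_root (U := X B v f) hb'X huX hQb' hb'u)) w y
    rw [hgew, hW w hw y hy, map_smul, LinearMap.smul_apply, smul_eq_mul] at h1
    exact (mul_eq_zero.mp h1).resolve_left (inv_ne_zero hl0)
  have hnotmem : Φe ∉ 𝒮 := by
    intro hm
    obtain ⟨c, hc, hce⟩ := Finset.mem_image.mp hm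
    replace hc : c ∈ Z := by simpa using hc
    have := hgeperp ((G c).val *ᵥ w) (hce ▸ Submodule.mem_map_of_mem hw)
    rw [hact c hc, map_sub, map_add, map_smul, map_smul, hbw, (hZmem.mp hc).2.2,
      C.self_zero hQb] at this
    simp at this
  have hemeet : ∀ y ∈ W, y ∈ Φe → B b y = 0 ∧ B c' y = 0 := by
    intro y hy hye
    obtain ⟨y0, hy0, he⟩ := Submodule.mem_map.mp hye
    rw [Matrix.mulVecLin_apply, hge] at he
    have hwy0 : B w y0 = 0 := hW w hw y0 hy0
    have h1 : B b' y0 = B b y0 + B c' y0 := by simp [hb', hwy0]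
    have h2 : B u y0 = l⁻¹ * B b y0 := by simp [hu, hwy0]
    set β := B b y0
    set γ := B c' y0
    have hd : y - y0 = (l⁻¹ * (β + 2 * γ)) • b - β • w + (l⁻¹ * γ) • c' := by
      rw [← he, h1, h2, hQu, hu, hb']
      match_scalars <;> field_simp <;> ring
    have hdW : y - y0 ∈ W := W.sub_mem hy hy0
    have h3 := hW w hw _ hdW
    rw [hd, map_add, map_sub, map_smul, map_smul, map_smul, hwb, C.self_zero (hWQ w hw),
      hc'w] at h3
    simp [hl0] at h3
    rw [h3, mul_zero, zero_smul, zero_sub] at hd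
    have hγ : γ = 0 := by
      by_contra hγ
      have h4 : c' = (l⁻¹ * γ)⁻¹ • ((y - y0) + β • w) := by
        rw [hd]
        match_scalars <;> field_simp <;> ring
      exact hQc' (hWQ c' (h4 ▸ W.smul_mem _ (W.add_mem hdW (W.smul_mem _ hw))))
    have hβ : β = 0 := by linear_combination h3 - 2 * hγ
    have hyy : y = y0 := by
      rw [hγ, hβ] at hd
      simpa [sub_eq_zero] using hd
    rw [hyy]
    exact ⟨hβ, hγ⟩
  choose! sec hsec hsecΦ using fun U (hU : U ∈ 𝒮) => Finset.mem_image.mp hU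
  refine ⟨insert ge (𝒮.image fun U => G (sec U)), ?_, ?_, ?_⟩
  · have hinjG : Set.InjOn (fun U => G (sec U)) 𝒮 := fun U hU U' hU' he => by
      rw [← hsecΦ U hU, ← hsecΦ U' hU']
      exact congrArg (fun g : GL ι F => W.map (Matrix.mulVecLin g.val)) he
    have hnot : ge ∉ 𝒮.image fun U => G (sec U) := fun hm => by
      obtain ⟨U, hU, he⟩ := Finset.mem_image.mp hm
      refine hnotmem (Finset.mem_image.mpr ⟨sec U, hsec U hU, ?_⟩)
      exact congrArg (fun g : GL ι F => W.map (Matrix.mulVecLin g.val)) he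
    rw [Finset.card_insert_of_notMem hnot, Finset.card_image_of_injOn hinjG, mul_add, mul_one]
    omega
  · intro g hg g' hg' he
    simp only [Finset.coe_insert, Finset.coe_image, Set.mem_insert_iff, Set.mem_image,
      Finset.mem_coe] at hg hg'
    rcases hg with rfl | ⟨U, hU, rfl⟩ <;> rcases hg' with rfl | ⟨U', hU', rfl⟩
    · rfl
    · exact absurd (Finset.mem_image.mpr ⟨sec U', hsec U' hU', he.symm⟩) hnotmem
    · exact absurd (Finset.mem_image.mpr ⟨sec U, hsec U hU, he⟩) hnotmem
    · have : U = U' := by rw [← hsecΦ U hU, ← hsecΦ U' hU']; exact he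
      rw [this]
  intro g hg
  rcases Finset.mem_insert.mp hg with rfl | hg
  · refine ⟨sGL_mem_root hb'X huX hQb' hb'u, hgea,
      Or.inr ⟨c', hc'X, hbc', fun hm => ?_, hemeet⟩⟩
    obtain ⟨w0, hw0, s, hs, he⟩ := Submodule.mem_sup.mp hm
    obtain ⟨t, rfl⟩ := Submodule.mem_span_singleton.mp hs
    rw [← he, map_add, map_smul, C.self_zero hQb, smul_zero, add_zero] at hbc'
    refine hQc' ?_
    rw [← he, C.add, hWQ w0 hw0, C.smul, hQb, map_smul, C.symm w0 b, hbc']
    simp
  obtain ⟨U, hU, rfl⟩ := Finset.mem_image.mp hg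
  have hc : sec U ∈ Z := by simpa using hsec U hU
  refine ⟨hGmem _ hc, hGa _ hc, ?_⟩
  by_cases hm : sec U ∈ W ⊔ Submodule.span F {b}
  · exact Or.inl (hstab _ hc hm)
  · exact Or.inr ⟨sec U, (hZmem.mp hc).1, (hZmem.mp hc).2.2, hm, hmeet _ hc hm⟩

end

variable [Fintype α] (S : Setup Q B τ α) {v f : ι → F} (h : Hyp Q B ⊤ v f)

include S h

/-- Singular vectors cannot lie in `q + 2` annihilators each. -/
theorem singular_contra {a : ι → F} (hQa : Q a = 0) {k : ℕ} (hk : Nat.card F + 2 ≤ k)
    (hcov : k * (cls Q (X B v f) a).ncard ≤ Nat.card α) : False := by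
  obtain ⟨j, hj, hjX⟩ := S.finrank_X h
  have hc := cls_zero_ncard S.space (X B v f) hQa
  have hl := level_lower S.space (X_ndeg S.space h) hjX 0
  rw [← hc] at hl
  have hs := S.small
  rw [hj, show j + 7 - 1 = (j + 2) + 4 by omega, show j + 7 - 4 = (j + 2) + 1 by omega] at hs
  set c := (cls Q (X B v f) a).ncard
  have h1 : (Nat.card F + 2) * c ≤ Nat.card α := (Nat.mul_le_mul_right c hk).trans hcov
  have hq := S.q4
  obtain ⟨r, hq'⟩ : ∃ r, Nat.card F = r + 4 := ⟨Nat.card F - 4, by omega⟩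
  simp only [hq', pow_add _ (j + 2) 4, pow_add _ (j + 2) 1] at h1 hs hl
  have hM : 16 ≤ (r + 4) ^ (j + 2) := by
    calc 16 ≤ (r + 4) ^ 2 := by nlinarith
      _ ≤ _ := Nat.pow_le_pow_right (by omega) (by omega)
  set M := (r + 4) ^ (j + 2)
  rw [show r + 4 - 1 = r + 3 by omega] at hs
  rw [show (r + 4) ^ 2 - 1 = (r + 3) * (r + 5) by
    rw [show (r + 4) ^ 2 = (r + 3) * (r + 5) + 1 by ring, Nat.add_sub_cancel]] at hl
  have h2 := Nat.mul_le_mul_left (r + 3) h1
  have h3 := Nat.mul_le_mul_left ((r + 3) * (r + 6)) hl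
  have h4 := Nat.mul_le_mul_right (10 + 2 * r) hM
  ring_nf at h2 h3 h4 hs
  nlinarith [Nat.zero_le (M * r), Nat.zero_le (M * r ^ 2), Nat.zero_le (M * r ^ 3),
    Nat.zero_le (M * r ^ 4)]

end

end Cfsg.Lib.Linear.MinIndexOrth
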