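import Cfsg.Agent.Lib.Linear.OrthMax

/-!
# Frames for the minimal index of orthogonal groups: geometry

For a hyperbolic pair `(v, f)` the space `perp2 B ⊤ v f` carries the elements with centre `v`.
This file has the facts about singular vectors in perpendicular spaces and the elements of `Ω`
which scale `v` and `f`.
-/

set_option autoImplicit false

namespace Cfsg.Lib.Linear.MinIndexOrth

open Module Cfsg.Lib.Linear.Orth
open scoped Matrix

variable {ι : Type} [Fintype ι] [DecidableEq ι] {F : Type*} [Field F]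
  {Q : (ι → F) → F} {B : LinearMap.BilinForm F (ι → F)}

section Hyperbolic

variable (C : Space Q B) {U : Submodule F (ι → F)} {e f : ι → F}

include C

/-- A subspace with a hyperbolic pair is spanned by its singular vectors. -/
theorem span_sing_hyp (h : Hyp Q B U e f) : U ≤ Submodule.span F {w | w ∈ U ∧ Q w = 0} := by
  intro x hx
  set S := Submodule.span F {w | w ∈ U ∧ Q w = 0}
  have hsub : ∀ w, w ∈ U → Q w = 0 → w ∈ S := fun w h1 h2 => Submodule.subset_span ⟨h1, h2⟩
  set w := x - B f x • e - B e x • f with hw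
  obtain ⟨hwU, hew, hfw⟩ := mem_perp2.mp (h.proj C hx)
  rw [← hw] at hwU hew hfw
  have hsing : Q (w + (f - Q w • e)) = 0 := by
    rw [C.add, map_sub, map_smul, C.symm w f, hfw, C.symm w e, hew, sub_eq_add_neg f, ← neg_smul,
      C.add, C.smul, h.singE, h.singF, map_smul, h.pair' C]
    simp
  rw [show x = (w + (f - Q w • e)) - f + Q w • e + B f x • e + B e x • f by rw [hw]; module]
  exact S.add_mem (S.add_mem (S.add_mem (S.sub_mem
    (hsub _ (U.add_mem hwU (U.sub_mem h.memF (U.smul_mem _ h.memE))) hsing)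
    (hsub _ h.memF h.singF)) (S.smul_mem _ (hsub _ h.memE h.singE)))
    (S.smul_mem _ (hsub _ h.memE h.singE))) (S.smul_mem _ (hsub _ h.memF h.singF))

/-- A partner for a singular vector which is not perpendicular to `U`. -/
theorem exists_hyp_of_pair (he : e ∈ U) (hQe : Q e = 0) (hy : ∃ y ∈ U, B e y ≠ 0) :
    ∃ f, Hyp Q B U e f := by
  obtain ⟨y, hy, hey⟩ := hy
  refine ⟨(B e y)⁻¹ • y - ((B e y)⁻¹ ^ 2 * Q y) • e, he, U.sub_mem (U.smul_mem _ hy)
    (U.smul_mem _ he), hQe, ?_, ?_⟩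
  · rw [sub_eq_add_neg, ← neg_smul, C.smul_add, hQe, C.symm y e]
    field_simp
    ring
  · simp [C.self_zero hQe, hey]

theorem Hyp.ne_zero (h : Hyp Q B U e f) : e ≠ 0 ∧ f ≠ 0 := by
  constructor <;> intro h0 <;> have := h.pair <;> rw [h0] at this <;>
    simp at this

theorem Hyp.swap (h : Hyp Q B U e f) : Hyp Q B U f e :=
  ⟨h.memF, h.memE, h.singF, h.singE, h.pair' C⟩

theorem Hyp.mono {U' : Submodule F (ι → F)} (h : Hyp Q B U e f) (hU : U ≤ U') :
    Hyp Q B U' e f :=
  ⟨hU h.memE, hU h.memF, h.singE, h.singF, h.pair⟩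

theorem perp2_comm : perp2 B U e f = perp2 B U f e := by
  ext x; simp only [mem_perp2]; tauto

theorem finrank_inf_ker_ge (U : Submodule F (ι → F)) (u : ι → F) :
    finrank F U ≤ finrank F ↥(U ⊓ LinearMap.ker (B u)) + 1 := by
  have h3 := Submodule.finrank_sup_add_finrank_inf_eq U (LinearMap.ker (B u))
  have h4 := LinearMap.finrank_range_add_finrank_ker (B u)
  have h5 : finrank F (LinearMap.range (B u)) ≤ 1 := by
    simpa using Submodule.finrank_le (LinearMap.range (B u))
  have h6 := Submodule.finrank_le (U ⊔ LinearMap.ker (B u))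
  omega

/-- Two mutually perpendicular subspaces have total dimension at most that of the space. -/
theorem perp_bound {Z₁ Z₂ : Submodule F (ι → F)} (h : ∀ x ∈ Z₁, ∀ y ∈ Z₂, B x y = 0) :
    finrank F Z₁ + finrank F Z₂ ≤ Fintype.card ι := by
  let Φ : Z₁ →ₗ[F] Module.Dual F (ι → F) := B.domRestrict Z₁
  have hinj : Function.Injective Φ := by
    rw [injective_iff_map_eq_zero]
    intro a ha
    exact Subtype.ext (C.nondeg' fun u => LinearMap.congr_fun ha u)
  have hle : LinearMap.range Φ ≤ Z₂.dualAnnihilator := by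
    rintro _ ⟨a, rfl⟩
    rw [Submodule.mem_dualAnnihilator]
    exact fun x hx => h _ a.2 x hx
  have h1 := Submodule.finrank_mono hle
  rw [LinearMap.finrank_range_of_inj hinj] at h1
  have h2 := Subspace.finrank_add_finrank_dualAnnihilator_eq Z₂
  rw [finrank_fintype_fun_eq_card] at h2
  omega

end Hyperbolic

section Frame

variable (C : Space Q B) {v f : ι → F} (h : Hyp Q B ⊤ v f)

/-- The space of parameters of the elements with centre `v`, for the frame `(v, f)`. -/
abbrev X (B : LinearMap.BilinForm F (ι → F)) (v f : ι → F) : Submodule F (ι → F) :=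
  perp2 B ⊤ v f

theorem mem_X {v f x : ι → F} : x ∈ X B v f ↔ B v x = 0 ∧ B f x = 0 := by
  rw [X, mem_perp2]; simp

theorem X.left {v f x : ι → F} (hx : x ∈ X B v f) : B v x = 0 := (mem_X.mp hx).1

theorem X.right {v f x : ι → F} (hx : x ∈ X B v f) : B f x = 0 := (mem_X.mp hx).2

include C h

theorem X_ndeg : NDeg B (X B v f) := h.ndeg C C.ndeg_top

theorem finrank_X : finrank F (X B v f) + 2 = Fintype.card ι := by
  refine le_antisymm ?_ (finrank_ker_prod_ge v f)
  have h1 := Submodule.finrank_sup_add_finrank_inf_eq (X B v f) (Submodule.span F {v, f})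
  have h2 : X B v f ⊓ Submodule.span F {v, f} = ⊥ := by
    refine eq_bot_iff.mpr fun x hx => ?_
    obtain ⟨hxX, hxS⟩ := Submodule.mem_inf.mp hx
    obtain ⟨a, b, rfl⟩ := Submodule.mem_span_pair.mp hxS
    obtain ⟨h1, h2⟩ := mem_X.mp hxX
    simp [C.self_zero h.singE, C.self_zero h.singF, h.pair, h.pair' C] at h1 h2
    simp [h1, h2]
  have h3 : finrank F ↥(Submodule.span F {v, f}) = 2 := by
    have hli : LinearIndependent F ![v, f] := by
      rw [LinearIndependent.pair_iff]
      intro s t hst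
      have h1 := congrArg (B v) hst
      have h2 := congrArg (B f) hst
      simp [C.self_zero h.singE, C.self_zero h.singF, h.pair, h.pair' C] at h1 h2
      exact ⟨h2, h1⟩
    have := finrank_span_eq_card hli
    rw [Matrix.range_cons_cons_empty, Fintype.card_fin] at this
    exact this
  have h4 := Submodule.finrank_le (X B v f ⊔ Submodule.span F {v, f})
  rw [finrank_fintype_fun_eq_card] at h4
  rw [h2, finrank_bot, h3] at h1
  omega

/-- An isometry scaling `v` and `f` preserves the parameter space. -/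
theorem act_mem_X {g : GL ι F} (hg : g ∈ isometryGroup F Q) {c : F} (hc : c ≠ 0)
    {v' f' : ι → F} (hgv : g.val *ᵥ v = c • v') (hgf : g.val *ᵥ f = c⁻¹ • f') {x : ι → F}
    (hx : x ∈ X B v f) : g.val *ᵥ x ∈ X B v' f' := by
  have h1 := C.B_act hg v x
  have h2 := C.B_act hg f x
  rw [hgv, X.left hx, map_smul, LinearMap.smul_apply, smul_eq_mul] at h1
  rw [hgf, X.right hx, map_smul, LinearMap.smul_apply, smul_eq_mul] at h2
  exact mem_X.mpr ⟨(mul_eq_zero.mp h1).resolve_left hc,
    (mul_eq_zero.mp h2).resolve_left (inv_ne_zero hc)⟩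

/-- Elements of the root group of the parameter space fix `v` and `f`. -/
theorem root_fix {g : GL ι F} (hg : g ∈ Root Q B (X B v f)) :
    g.val *ᵥ v = v ∧ g.val *ᵥ f = f :=
  ⟨(root_act C hg v).2 fun y hy => by rw [C.symm]; exact X.left hy,
    (root_act C hg f).2 fun y hy => by rw [C.symm]; exact X.right hy⟩

end Frame

section Elements

variable [Finite F] (C : Space Q B) (h5 : 5 ≤ Fintype.card ι) {v f : ι → F}
  (h : Hyp Q B ⊤ v f)

include C h5

theorem rGL_mul_rGL_root {a b : ι → F} (ha : Q a ≠ 0) (hab : Q a = Q b) :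
    rGL Q a * rGL Q b ∈ Root Q B ⊤ := by
  rw [← comm_eq_root C h5]
  exact rGL_mul_rGL_mem C h5 ha hab

omit [Finite F] h5 in
theorem Q_sub_smul {U : Submodule F (ι → F)} {v f : ι → F} (h : Hyp Q B U v f) (t : F) :
    Q (v - t • f) = -t := by
  rw [sub_eq_add_neg, ← neg_smul, C.add, C.smul, h.singE, h.singF, map_smul, h.pair]
  simp

omit [Finite F] h5 in
/-- A reflection exchanging the two lines of a hyperbolic pair. -/
theorem rGL_hyp {U : Submodule F (ι → F)} {v f : ι → F} (h : Hyp Q B U v f) {t : F} (ht : t ≠ 0) :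
    (rGL Q (v - t • f)).val *ᵥ v = t • f ∧ (rGL Q (v - t • f)).val *ᵥ f = t⁻¹ • v := by
  have hQ := Q_sub_smul C h t
  have hne : Q (v - t • f) ≠ 0 := by rw [hQ]; exact neg_ne_zero.mpr ht
  constructor
  · rw [rGL_act C hne, hQ, map_sub, LinearMap.sub_apply, map_smul, LinearMap.smul_apply,
      C.self_zero h.singE, h.pair' C, smul_eq_mul]
    match_scalars <;> field_simp <;> ring
  · rw [rGL_act C hne, hQ, map_sub, LinearMap.sub_apply, map_smul, LinearMap.smul_apply,
      C.self_zero h.singF, h.pair, smul_eq_mul]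
    match_scalars <;> field_simp <;> ring

include h

omit [Finite F] h5 in
theorem rGL_hyp_fix {x : ι → F} (hx : x ∈ X B v f) {t : F} (ht : t ≠ 0) :
    (rGL Q (v - t • f)).val *ᵥ x = x := by
  refine rGL_fix C (by rw [Q_sub_smul C h t]; exact neg_ne_zero.mpr ht) ?_
  simp [X.left hx, X.right hx]

/-- An element of `Ω` fixing the parameter space which scales `v` by a square. -/
theorem exists_scale {μ : F} (hμ : μ ≠ 0) :
    ∃ g ∈ Root Q B ⊤, g.val *ᵥ v = μ ^ 2 • v ∧ g.val *ᵥ f = (μ ^ 2)⁻¹ • f ∧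
      ∀ x ∈ X B v f, g.val *ᵥ x = x := by
  have h2 : μ ^ 2 ≠ 0 := pow_ne_zero 2 hμ
  have hQ1 := Q_sub_smul C h (1 : F)
  rw [one_smul] at hQ1
  have hQb : Q (μ⁻¹ • (v - μ ^ 2 • f)) = -1 := by
    rw [C.smul, Q_sub_smul C h]; field_simp
  have hsame : rGL Q (μ⁻¹ • (v - μ ^ 2 • f)) = rGL Q (v - μ ^ 2 • f) := gl_ext fun x => by
    rw [rGL_act C (by rw [hQb]; exact neg_ne_zero.mpr one_ne_zero),
      rGL_act C (by rw [Q_sub_smul C h]; exact neg_ne_zero.mpr h2), C.smul, map_smul,
      LinearMap.smul_apply, smul_eq_mul, smul_smul]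
    congr 1
    congr 1
    field_simp
  refine ⟨rGL Q (v - f) * rGL Q (μ⁻¹ • (v - μ ^ 2 • f)),
    rGL_mul_rGL_root C h5 (by rw [hQ1]; exact neg_ne_zero.mpr one_ne_zero) (by rw [hQ1, hQb]),
    ?_, ?_, fun x hx => ?_⟩
  · rw [hsame, mul_act, (rGL_hyp C h h2).1, Matrix.mulVec_smul]
    have := (rGL_hyp C h (one_ne_zero (α := F))).2
    rw [one_smul, inv_one, one_smul] at this
    rw [this]
  · rw [hsame, mul_act, (rGL_hyp C h h2).2, Matrix.mulVec_smul]
    have := (rGL_hyp C h (one_ne_zero (α := F))).1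
    simp only [one_smul] at this
    rw [this]
  · rw [hsame, mul_act, rGL_hyp_fix C h hx h2]
    have := rGL_hyp_fix C h hx (one_ne_zero (α := F))
    rwa [one_smul] at this

/-- An element of `Ω` scaling `v` by a given non-zero scalar. -/
theorem exists_scale' {t : F} (ht : t ≠ 0) :
    ∃ g ∈ Root Q B ⊤, g.val *ᵥ v = t • v ∧ g.val *ᵥ f = t⁻¹ • f := by
  obtain ⟨e', f', h'⟩ := exists_hyp' C (X_ndeg C h) (by have := finrank_X C h; omega)
  have h1 := Q_sub_smul C h (1 : F)
  have h1' := Q_sub_smul C h' (1 : F)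
  rw [one_smul] at h1 h1'
  have ha : (1 : F) • f = f := one_smul F f
  have hfix : ∀ s : F, s ≠ 0 → ∀ z ∈ ({v, f} : Set (ι → F)),
      (rGL Q (e' - s • f')).val *ᵥ z = z := by
    intro s hs z hz
    refine rGL_fix C (by rw [Q_sub_smul C h' s]; exact neg_ne_zero.mpr hs) ?_
    rcases hz with rfl | rfl
    · simp [C.symm e' z, C.symm f' z, X.left h'.memE, X.left h'.memF]
    · simp [C.symm e' z, C.symm f' z, X.right h'.memE, X.right h'.memF]
  refine ⟨(rGL Q (v - f) * rGL Q (e' - f')) * (rGL Q (e' - t • f') * rGL Q (v - t • f)),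
    mul_mem (rGL_mul_rGL_root C h5 (by rw [h1]; exact neg_ne_zero.mpr one_ne_zero) (by rw [h1, h1']))
      (rGL_mul_rGL_root C h5 (by rw [Q_sub_smul C h']; exact neg_ne_zero.mpr ht)
        (by rw [Q_sub_smul C h', Q_sub_smul C h])), ?_, ?_⟩
  · simp only [mul_act]
    rw [(rGL_hyp C h ht).1, Matrix.mulVec_smul, hfix t ht f (by simp), Matrix.mulVec_smul,
      Matrix.mulVec_smul]
    have e1 := hfix 1 one_ne_zero f (by simp)
    have e2 := (rGL_hyp C h (one_ne_zero (α := F))).2
    simp only [one_smul, inv_one] at e1 e2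
    rw [e1, e2]
  · simp only [mul_act]
    rw [(rGL_hyp C h ht).2, Matrix.mulVec_smul, hfix t ht v (by simp), Matrix.mulVec_smul,
      Matrix.mulVec_smul]
    have e1 := hfix 1 one_ne_zero v (by simp)
    have e2 := (rGL_hyp C h (one_ne_zero (α := F))).1
    simp only [one_smul] at e1 e2
    rw [e1, e2]

omit h in
/-- `Ω` is transitive on the frames. -/
theorem exists_frame_map {v' f' : ι → F} (h : Hyp Q B ⊤ v f) (h' : Hyp Q B ⊤ v' f') :
    ∃ g ∈ Root Q B ⊤, g.val *ᵥ v = v' ∧ g.val *ᵥ f = f' := by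
  obtain ⟨g₀, hg₀, hg₀v⟩ := trans_top C h5 (Hyp.ne_zero C h).1 (Hyp.ne_zero C h').1
    (by rw [h.singE, h'.singE])
  set y := g₀.val *ᵥ f with hy
  have hQy : Q y = 0 := by rw [hy, mem_iso.mp (root_le_iso C _ hg₀), h.singF]
  have hvy : B v' y = 1 := by rw [← hg₀v, hy, C.B_act (root_le_iso C _ hg₀), h.pair]
  set a := -(y - B f' y • v' - f') with hadef
  have hva : B v' a = 0 := by
    simp [hadef, hvy, C.self_zero h'.singE, h'.pair]
  refine ⟨sGL Q B v' a * g₀, mul_mem (sGL_mem_root trivial trivial h'.singE hva) hg₀, ?_, ?_⟩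
  · rw [mul_act, hg₀v, sGL_act C h'.singE hva, C.self_zero h'.singE, C.symm a v', hva]
    simp
  · rw [mul_act, ← hy]
    have h1 : (sGL Q B v' a).val *ᵥ y = (B f' y - (B a y + Q a)) • v' + f' := by
      rw [sGL_act C h'.singE hva, hvy, mul_one, one_smul]
      have ha' : y + a = B f' y • v' + f' := by rw [hadef]; abel
      rw [ha']
      module
    have h2 := mem_iso.mp (sGL_mem C h'.singE hva) y
    rw [h1, hQy, C.add, C.smul, h'.singE, h'.singF] at h2
    simp only [LinearMap.map_smul₂, h'.pair, mul_zero, zero_add, smul_eq_mul, mul_one] at h2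
    rw [h1, h2, zero_smul, zero_add]

/-- Transitivity on the vectors of the parameter space up to a scaling of the frame. -/
theorem exists_class_map (h7 : 7 ≤ Fintype.card ι) {x y : ι → F} (hx : x ∈ X B v f)
    (hy : y ∈ X B v f) (hx0 : x ≠ 0) (hy0 : y ≠ 0) {t : F} (ht : t ≠ 0)
    (hxy : Q y = t ^ 2 * Q x) :
    ∃ g ∈ Root Q B ⊤, g.val *ᵥ v = t⁻¹ • v ∧ g.val *ᵥ f = t • f ∧
      t • g.val *ᵥ x = y := by
  obtain ⟨g₀, hg₀, hgv, hgf⟩ := exists_scale' C h5 h (inv_ne_zero ht)
  rw [inv_inv] at hgf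
  have hxX : g₀.val *ᵥ x ∈ X B v f :=
    act_mem_X C h (root_le_iso C _ hg₀) (inv_ne_zero ht) hgv (by rw [inv_inv]; exact hgf) hx
  have hyX : t⁻¹ • y ∈ X B v f := Submodule.smul_mem _ _ hy
  obtain ⟨g₁, hg₁, hg₁x⟩ := trans C (X_ndeg C h) (by have := finrank_X C h; omega) hxX hyX
    (act_ne_zero hx0) (smul_ne_zero (inv_ne_zero ht) hy0)
    (by rw [mem_iso.mp (root_le_iso C _ hg₀), C.smul, hxy]; field_simp)
  refine ⟨g₁ * g₀, mul_mem (root_mono le_top hg₁) hg₀, ?_, ?_, ?_⟩
  · rw [mul_act, hgv, Matrix.mulVec_smul, (root_fix C h hg₁).1]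
  · rw [mul_act, hgf, Matrix.mulVec_smul, (root_fix C h hg₁).2]
  · rw [mul_act, hg₁x, smul_smul, mul_inv_cancel₀ ht, one_smul]

end Elements

end Cfsg.Lib.Linear.MinIndexOrth
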